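import Mathlib
import Cfsg.Agent.K3.Defs
import Cfsg.Agent.GT.Conj
import Cfsg.Agent.GT.Cores

/-! Thin simple groups of order `p * 3 ^ a * 2 ^ b` with a nonsolvable 2-local subgroup:
definitions. -/

set_option autoImplicit false
open Cfsg Subgroup

namespace Cfsg.Agent.K3P

/-- The conjugate `g H g⁻¹`. -/
scoped notation:75 H " ^ᶜ " g:76 => Subgroup.map (MulEquiv.toMonoidHom (MulAut.conj g)) H

variable {G : Type*} [Group G]

/-- The centraliser of an element. -/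
abbrev Cn (x : G) : Subgroup G := centralizer ({x} : Set G)

/-- The 2-core of the centraliser of an element. -/
def DD (t : G) : Subgroup G := pCoreOf 2 (Cn t)

/-- An element whose order is a power of two. -/
def Tw (g : G) : Prop := ∃ k : ℕ, g ^ 2 ^ k = 1

theorem mem_Cn {x g : G} : g ∈ Cn x ↔ Commute x g := by
  rw [mem_centralizer_singleton_iff]; exact ⟨fun h => h.symm, fun h => h.symm⟩

/-- The standing hypotheses on the ambient group. -/
structure Th (G : Type*) [Group G] (p : ℕ) : Prop where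
  shape : K3.Shape p (Nat.card G)
  sc : ∀ x : G, orderOf x = p → Cn x = zpowers x
  c2 : IsCharacteristicTwoType G
  thin : K3.Thin G
  four : K3.Four G
  e8 : ∀ S : Sylow 2 G, ∃ E : Subgroup G, E ≤ (S : Subgroup G) ∧ IsElementaryAbelian 2 E ∧
    Nat.card E = 8 ∧ (S : Subgroup G) ≤ normalizer (E : Set G)
  n128 : p ≤ 7 → ∀ S : Sylow 2 G, Nat.card (S : Subgroup G) ≠ 128

/-- `K / Q` is isomorphic to `L`. -/
def Sec (K Q : Subgroup G) (L : Type*) [Group L] : Prop :=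
  ∃ f : K →* L, Function.Surjective f ∧ ∀ k : K, f k = 1 ↔ (k : G) ∈ Q

/-- A maximal 2-local subgroup `M`, its 2-core `Q` and a normal subgroup `K` above `Q`. -/
structure Cf (p : ℕ) (M Q K : Subgroup G) : Prop where
  two : IsPGroup 2 Q
  ne : Q ≠ ⊥
  QK : Q ≤ K
  KM : K ≤ M
  nK : M ≤ normalizer (K : Set G)
  nQ : normalizer (Q : Set G) = M
  max : ∀ X : Subgroup G, IsPGroup 2 X → X ≠ ⊥ → M ≤ normalizer (X : Set G) →
    normalizer (X : Set G) = M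
  core : pCoreOf 2 M = Q
  cen : centralizer (Q : Set G) ≤ Q
  big : ∀ N : Subgroup G, N ≤ M → M ≤ normalizer (N : Set G) → ¬ N ≤ Q →
    ∀ x ∈ M, orderOf x = p → x ∈ N

/-- The case `K / Q = SL(2, q)`, `q = 4, 8`. -/
structure CA (p q : ℕ) (M Q K : Subgroup G) : Prop where
  pq : (p = 5 ∧ q = 4) ∨ (p = 7 ∧ q = 8)
  el : IsElementaryAbelian 2 Q
  nQ : normalizer (Q : Set G) = M
  cen : centralizer (Q : Set G) ≤ Q
  QK : Q ≤ K
  KM : K ≤ M
  nK : M ≤ normalizer (K : Set G)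
  cardK : Nat.card K = Nat.card Q * (q * (q ^ 2 - 1))
  free : ∀ a ∈ M, a ∉ Q → a * a ∈ Q → Nat.card (Q ⊓ Cn a : Subgroup G) ^ 2 = Nat.card Q
  syl : ∀ X : Subgroup G, Q ≤ X → X ≤ K → Nat.card X = q * Nat.card Q →
    (∀ a ∈ X, a * a ∈ Q) ∧
      ∃ h ∈ K, h ∈ normalizer (X : Set G) ∧ orderOf h = q - 1 ∧ X ⊓ Cn h = ⊥
  idx : Odd (K.relIndex M) ∨ (q = 4 ∧ K.relIndex M = 2 ∧ ∃ w ∈ M, Tw w ∧ w * w ∉ Q)
  cardQ : Nat.card Q = q ^ 2 ∨ 4 * q ^ 2 < Nat.card Q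

/-- Two elementary abelian groups of order `q ^ 2` as in a Sylow 2-subgroup of `SL(3, q)`, swapped
by `g`. -/
structure Pr (q : ℕ) (Q R : Subgroup G) (h g : G) : Prop where
  eQ : IsElementaryAbelian 2 Q
  eR : IsElementaryAbelian 2 R
  cQ : Nat.card Q = q ^ 2
  cR : Nat.card R = q ^ 2
  cZ : Nat.card (Q ⊓ R : Subgroup G) = q
  RQ : R ≤ normalizer (Q : Set G)
  QR : Q ≤ normalizer (R : Set G)
  nc : ∀ w ∈ Q, ∀ r ∈ R, Commute w r → w ∈ R ∨ r ∈ Q
  hQ : h ∈ normalizer (Q : Set G)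
  hR : h ∈ normalizer (R : Set G)
  ho : orderOf h = q - 1
  gQ : Q ^ᶜ g = R
  gR : R ^ᶜ g = Q
  cz : normalizer (Q : Set G) ⊓ centralizer ((Q ⊓ R : Subgroup G) : Set G) ≤ Q ⊔ R
  free : ∀ a ∈ normalizer (Q : Set G), a ∉ Q → a * a ∈ Q → Nat.card (Q ⊓ Cn a : Subgroup G) = q

/-- The case `M / Q = GL(V)`, `V` of order eight. -/
structure CB (M Q V : Subgroup G) (x y : G) : Prop where
  two : IsPGroup 2 Q
  QM : Q ≤ M
  nQ : normalizer (Q : Set G) = M
  mem : ∀ v : G, v ∈ V ↔ v ∈ Q ∧ v ∈ centralizer (Q : Set G) ∧ v * v = 1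
  nV : normalizer (V : Set G) = M
  cV : centralizer (V : Set G) = Q
  cardV : Nat.card V = 8
  cardM : Nat.card M = 168 * Nat.card Q
  core : pCoreOf 2 M = Q
  cen : centralizer (Q : Set G) ≤ Q
  big : ∀ N : Subgroup G, N ≤ M → M ≤ normalizer (N : Set G) → ¬ N ≤ Q →
    ∀ x ∈ M, orderOf x = 7 → x ∈ N
  xM : x ∈ M
  yM : y ∈ M
  xo : orderOf x = 7
  yo : orderOf y = 3
  yx : y ∈ normalizer (zpowers x : Set G)

/-- A subgroup `D` of order 32 containing `V`, extraspecial with centre `v`, on which `y` fixes only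
the centre. -/
structure Es (V D : Subgroup G) (v y : G) : Prop where
  card : Nat.card D = 32
  VD : V ≤ D
  yD : y ∈ normalizer (D : Set G)
  comm : ∀ a ∈ D, ∀ b ∈ D, a * b * a⁻¹ * b⁻¹ ∈ zpowers v
  sq : ∀ a ∈ D, a * a ∈ zpowers v
  ctr : ∀ a ∈ D, (∀ b ∈ D, Commute a b) → a ∈ zpowers v
  cy : D ⊓ Cn y = zpowers v

/-- `A` is weakly closed in the centraliser of each of its nontrivial elements. -/
def WCl (A : Subgroup G) : Prop :=
  ∀ a ∈ A, a ≠ 1 → ∀ g : G, A ^ᶜ g ≤ Cn a → A ^ᶜ g = A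

end Cfsg.Agent.K3P
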