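import Mathlib
import Cfsg.Agent.K3P.Defs
import Cfsg.Agent.GT.PGroupBasic
import Cfsg.Agent.GT.TransferSylow
import Cfsg.Agent.GT.PGroupCyclicNormal

/-! Elementary consequences of the standing hypotheses. -/

set_option autoImplicit false
set_option linter.unusedSectionVars false
open Cfsg Subgroup

namespace Cfsg.Agent.K3P

variable {G : Type*} [Group G] [Finite G] {p : ℕ}

theorem Th.eq_one (h : Th G p) {x v : G} (hx : orderOf x = p) (hc : Commute x v)
    (hv : ¬ p ∣ orderOf v) : v = 1 := by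
  have h1 : v ∈ zpowers x := h.sc x hx ▸ mem_Cn.2 hc
  have h2 : orderOf v ∣ p := hx ▸ orderOf_dvd_of_mem_zpowers h1
  rcases (Nat.dvd_prime h.shape.prime).1 h2 with e | e
  · exact orderOf_eq_one_iff.1 e
  · exact absurd e.symm.dvd hv

theorem Th.fpf (h : Th G p) {x v : G} (hx : orderOf x = p) (hc : Commute x v) (hv : Tw v) :
    v = 1 := by
  refine h.eq_one hx hc fun e => ?_
  obtain ⟨k, hk⟩ := hv
  have := Nat.le_of_dvd two_pos
    (h.shape.prime.dvd_of_dvd_pow (e.trans (orderOf_dvd_of_pow_eq_one hk)))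
  have := h.shape.five_le
  omega

omit [Finite G] in
theorem tw_of_mem {X : Subgroup G} (hX : IsPGroup 2 X) {a : G} (ha : a ∈ X) : Tw a := by
  obtain ⟨k, hk⟩ := hX ⟨a, ha⟩
  exact ⟨k, congrArg Subtype.val hk⟩

omit [Finite G] in
theorem two_of_tw {X : Subgroup G} (hX : ∀ a ∈ X, Tw a) : IsPGroup 2 X := fun a =>
  (hX a a.2).imp fun _ hk => Subtype.ext hk

omit [Finite G] in
theorem two_of_el {X : Subgroup G} (hX : IsElementaryAbelian 2 X) : IsPGroup 2 X :=
  two_of_tw fun a ha => ⟨1, by simpa using hX.2 a ha⟩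

omit [Finite G] in
theorem el_comm {X : Subgroup G} (hX : IsElementaryAbelian 2 X) {a b : G} (ha : a ∈ X)
    (hb : b ∈ X) : Commute a b := GT.PG.isMulCommutative_iff_forall.1 hX.1 a ha b hb

omit [Finite G] in
theorem el_sq {X : Subgroup G} (hX : IsElementaryAbelian 2 X) {a : G} (ha : a ∈ X) :
    a * a = 1 := by rw [← sq]; exact hX.2 a ha

omit [Finite G] in
theorem el_of_sq {X : Subgroup G} (hX : ∀ a ∈ X, a * a = 1) : IsElementaryAbelian 2 X := by
  refine ⟨GT.PG.isMulCommutative_iff_forall.2 fun a ha b hb => ?_, fun a ha => by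
    rw [sq]; exact hX a ha⟩
  have e := inv_eq_of_mul_eq_one_right (hX _ (mul_mem ha hb))
  rw [mul_inv_rev, inv_eq_of_mul_eq_one_right (hX a ha), inv_eq_of_mul_eq_one_right (hX b hb)] at e
  exact e.symm

omit [Finite G] in
theorem el_conj {X : Subgroup G} (hX : IsElementaryAbelian 2 X) (g : G) :
    IsElementaryAbelian 2 (X ^ᶜ g) := el_of_sq fun a ha => by
  have := el_sq hX (GT.mem_map_conj.1 ha)
  rw [show g⁻¹ * a * g * (g⁻¹ * a * g) = g⁻¹ * (a * a) * g by group] at this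
  simpa [mul_assoc, inv_mul_eq_one] using (show g * (g⁻¹ * (a * a) * g) * g⁻¹ = 1 by simp [this])

/-- Orbit counting for an element of prime order. -/
theorem card_mod_cn {r : ℕ} (hr : r.Prime) {X : Subgroup G} {y : G} (hy : orderOf y = r)
    (hn : y ∈ normalizer (X : Set G)) : Nat.card X % r = Nat.card (X ⊓ Cn y : Subgroup G) % r := by
  have := Fact.mk hr
  have k := GT.card_modEq_card_inf_centralizer (L := X) (p := r) (Q := zpowers y)
    (IsPGroup.of_card (n := 1) (by rw [Nat.card_zpowers, hy, pow_one])) (zpowers_le.2 hn)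
  rwa [GT.centralizer_zpowers] at k

theorem Th.card_mod (h : Th G p) {X : Subgroup G} (hX : IsPGroup 2 X) {x : G} (hx : orderOf x = p)
    (hn : x ∈ normalizer (X : Set G)) : Nat.card X % p = 1 := by
  rw [card_mod_cn h.shape.prime hx hn, show X ⊓ Cn x = ⊥ from eq_bot_iff.2 fun v hv =>
    h.fpf hx (mem_Cn.1 hv.2) (tw_of_mem hX hv.1), card_bot]
  exact Nat.mod_eq_of_lt h.shape.prime.one_lt

/-- An element that is not a 2-element has a power of order three or `p`. -/
theorem Th.exists_pow (h : Th G p) {g : G} (hg : ¬ Tw g) :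
    ∃ n : ℕ, orderOf (g ^ n) = 3 ∨ orderOf (g ^ n) = p := by
  by_contra k
  push Not at k
  have key : ∀ r : ℕ, r.Prime → r ∣ orderOf g → r = 2 := fun r hr hd => by
    have e := orderOf_pow_orderOf_div (orderOf_pos g).ne' hd
    by_contra h2
    have h3 : r ≠ 3 := fun e3 => (k _).1 (e.trans e3)
    have h5 : 5 ≤ r := by
      have := hr.two_le
      by_contra h4
      obtain rfl : r = 4 := by omega
      norm_num at hr
    exact (k _).2 (e.trans (h.shape.eq_of_dvd hr h5 (hd.trans (orderOf_dvd_natCard g))))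
  have := Nat.eq_prime_pow_of_unique_prime_dvd (orderOf_pos g).ne' fun hr hd => key _ hr hd
  exact hg ⟨_, by rw [← this]; exact pow_orderOf_eq_one g⟩

theorem Th.tw_of_comm (h : Th G p) {u v g : G} (hu : orderOf u = 2) (hv : orderOf v = 2)
    (huv : u ≠ v) (hc : Commute u v) (h1 : Commute g u) (h2 : Commute g v) : Tw g := by
  by_contra k
  obtain ⟨n, e | e⟩ := h.exists_pow k
  · exact huv (h.four _ u v e hu hv (h1.pow_left n) (h2.pow_left n) hc)
  · have := h.fpf e (h1.pow_left n) ⟨1, by rw [pow_one, ← hu, pow_orderOf_eq_one]⟩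
    simp [this] at hu

omit [Finite G] in
theorem ord_two {a : G} (h2 : a * a = 1) (h1 : a ≠ 1) : orderOf a = 2 :=
  orderOf_eq_prime (by rw [sq, h2]) h1

theorem exists_two_ne {U : Subgroup G} (h : 3 ≤ Nat.card U) :
    ∃ u ∈ U, ∃ v ∈ U, u ≠ 1 ∧ v ≠ 1 ∧ u ≠ v := by
  by_contra k
  push Not at k
  have : Fintype U := Fintype.ofFinite _
  rw [Nat.card_eq_fintype_card] at h
  obtain ⟨a, b, c, ab, ac, bc⟩ := Fintype.two_lt_card_iff.1 (by omega : 2 < Fintype.card U)
  have ne : ∀ {s t : U}, s ≠ t → ((s⁻¹ * t : U) : G) ≠ 1 := fun n e =>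
    n (inv_mul_eq_one.1 (Subtype.ext e))
  exact bc (mul_left_cancel (Subtype.ext (k _ (a⁻¹ * b).2 _ (a⁻¹ * c).2 (ne ab) (ne ac))))

theorem Th.cent_two (h : Th G p) {U : Subgroup G} (hU : IsElementaryAbelian 2 U)
    (h4 : 4 ≤ Nat.card U) : IsPGroup 2 (centralizer (U : Set G)) := by
  obtain ⟨u, hu, v, hv, u1, v1, uv⟩ := exists_two_ne (by omega : 3 ≤ Nat.card U)
  exact two_of_tw fun g hg => h.tw_of_comm (ord_two (el_sq hU hu) u1) (ord_two (el_sq hU hv) v1) uv
    (el_comm hU hu hv) (Commute.symm (hg u hu)) (Commute.symm (hg v hv))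

theorem Th.card_cn_le (h : Th G p) {U : Subgroup G} (hU : IsElementaryAbelian 2 U) {y : G}
    (hy : orderOf y = 3) : Nat.card (U ⊓ Cn y : Subgroup G) ≤ 2 := by
  by_contra k
  obtain ⟨u, hu, v, hv, u1, v1, uv⟩ := exists_two_ne (U := U ⊓ Cn y) (by omega)
  exact uv (h.four y u v hy (ord_two (el_sq hU hu.1) u1) (ord_two (el_sq hU hv.1) v1)
    (mem_Cn.1 hu.2) (mem_Cn.1 hv.2) (el_comm hU hu.1 hv.1))

theorem Th.cyc3 (h : Th G p) {T Y : Subgroup G} (hT : IsPGroup 2 T) (h1 : T ≠ ⊥)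
    (hY : IsPGroup 3 Y) (hn : Y ≤ normalizer (T : Set G)) : IsCyclic Y := by
  have : Fact (Nat.Prime 3) := ⟨Nat.prime_three⟩
  refine GT.PG.isCyclic_of_pRankLE_one_of_odd (p := 3) (by norm_num) hY fun A hA h3 => ?_
  by_contra k
  have hA3 : IsPGroup 3 A := hY.to_subgroup A
  obtain ⟨n, hn'⟩ := hA3.exists_card_eq
  have h2 : 2 ≤ n := by
    by_contra h2
    have : n = 0 ∨ n = 1 := by omega
    rcases this with rfl | rfl <;> omega
  obtain ⟨B, hB⟩ := Sylow.exists_subgroup_card_pow_prime (G := A) 3 (n := 2)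
    (hn' ▸ pow_dvd_pow 3 h2)
  let E : Subgroup G := (B.map A.subtype).map Y.subtype
  have mem : ∀ e ∈ E, ∃ a : Y, a ∈ A ∧ (a : G) = e := by
    rintro _ ⟨_, ⟨a, -, rfl⟩, rfl⟩
    exact ⟨a, a.2, rfl⟩
  refine h.thin T E hT h1 ((map_subtype_le _).trans hn)
    ⟨GT.PG.isMulCommutative_iff_forall.2 fun a ha b hb => ?_, fun a ha => ?_⟩ ?_
  · obtain ⟨a, h1, rfl⟩ := mem a ha
    obtain ⟨b, h2, rfl⟩ := mem b hb
    exact congrArg Subtype.val (GT.PG.isMulCommutative_iff_forall.1 hA a h1 b h2)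
  · obtain ⟨a, h1, rfl⟩ := mem a ha
    exact congrArg Subtype.val (h3 a h1)
  · rw [card_map_of_injective Y.subtype_injective, card_map_of_injective A.subtype_injective, hB]
    norm_num

theorem wc_le {Q X : Subgroup G} (wc : ∀ g : G, Q ^ᶜ g ≤ normalizer (Q : Set G) → Q ^ᶜ g = Q)
    (hX : IsPGroup 2 X) (hQ : Q ≤ X) : X ≤ normalizer (Q : Set G) := by
  by_contra k
  have h1 : X ⊓ normalizer (Q : Set G) < X := lt_of_le_of_ne inf_le_left fun e => k (inf_eq_left.1 e)
  obtain ⟨g, hg, hg'⟩ := SetLike.exists_of_lt (GT.Tr.lt_inf_normalizer hX h1)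
  refine hg' ⟨hg.1, GT.map_conj_eq_self_iff.1 (wc g ?_)⟩
  exact (GT.map_conj_le_of_mem_normalizer (le_inf hQ le_normalizer) hg.2).trans inf_le_right

omit [Finite G] in
theorem Sec.card {K Q : Subgroup G} {L : Type*} [Group L] (s : Sec K Q L) (h : Q ≤ K) :
    Nat.card K = Nat.card Q * Nat.card L := by
  obtain ⟨f, hf, hk⟩ := s
  have e : f.ker = Q.subgroupOf K := by ext k; exact hk k
  rw [← f.ker.card_mul_index, index_ker, MonoidHom.range_eq_top.2 hf, card_top, e,
    Nat.card_congr (subgroupOfEquivOfLe h).toEquiv]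

omit [Finite G] in
theorem Sec.congr {K Q : Subgroup G} {L L' : Type*} [Group L] [Group L'] (s : Sec K Q L)
    (e : L ≃* L') : Sec K Q L' := by
  obtain ⟨f, hf, hk⟩ := s
  exact ⟨e.toMonoidHom.comp f, e.surjective.comp hf, fun k => by simp [← hk k]⟩

/-- Elements of odd order lift over a kernel that is a 2-group. -/
theorem lift_odd {K Q : Subgroup G} {L : Type*} [Group L] (hQ : IsPGroup 2 Q) (f : K →* L)
    (hf : Function.Surjective f) (hk : ∀ k : K, f k = 1 ↔ (k : G) ∈ Q) {l : L}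
    (hl : Odd (orderOf l)) : ∃ k : K, f k = l ∧ orderOf (k : G) = orderOf l := by
  obtain ⟨k, rfl⟩ := hf l
  obtain ⟨j, hj⟩ := tw_of_mem hQ ((hk (k ^ orderOf (f k))).1 (by rw [map_pow, pow_orderOf_eq_one]))
  have hc : (2 ^ j).Coprime (orderOf (f k)) := (Nat.coprime_two_left.2 hl).pow_left j
  obtain ⟨c, hc'⟩ := exists_pow_eq_self_of_coprime hc
  have e1 : f ((k ^ 2 ^ j) ^ c) = f k := by rw [map_pow, map_pow, hc']
  refine ⟨(k ^ 2 ^ j) ^ c, e1, Nat.dvd_antisymm (orderOf_dvd_of_pow_eq_one ?_) ?_⟩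
  · push_cast at hj ⊢
    rw [← pow_mul, ← pow_mul, show 2 ^ j * (c * orderOf (f k)) = orderOf (f k) * 2 ^ j * c by ring,
      pow_mul, pow_mul, hj, one_pow]
  · rw [orderOf_coe]
    conv_lhs => rw [← e1]
    exact orderOf_map_dvd f _

theorem sq_le {V : Subgroup G} (hV : IsElementaryAbelian 2 V) {a : G}
    (ha : a ∈ normalizer (V : Set G)) (h2 : a * a ∈ centralizer (V : Set G)) :
    Nat.card V ≤ Nat.card (V ⊓ Cn a : Subgroup G) ^ 2 := by
  have cm : ∀ v ∈ V, a * v * a⁻¹ ∈ V := fun v hv => GT.conj_mem_of_mem_normalizer ha hv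
  have mm : ∀ v ∈ V, v * (a * v * a⁻¹) ∈ V ⊓ Cn a := fun v hv => ⟨mul_mem hv (cm v hv), by
    have e : a * (a * v * a⁻¹) * a⁻¹ = v := by
      rw [show a * (a * v * a⁻¹) * a⁻¹ = (a * a) * v * (a * a)⁻¹ by group, ← h2 v hv]; group
    refine mem_Cn.2 ?_
    change a * (v * (a * v * a⁻¹)) = v * (a * v * a⁻¹) * a
    rw [(el_comm hV hv (cm v hv)).eq]
    calc a * (a * v * a⁻¹ * v) = a * (a * v * a⁻¹) * a⁻¹ * (a * v * a⁻¹) * a := by group
      _ = v * (a * v * a⁻¹) * a := by rw [e]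
      _ = _ := by rw [(el_comm hV hv (cm v hv)).eq]⟩
  let φ : V →* (V ⊓ Cn a : Subgroup G) := MonoidHom.mk' (fun v => ⟨_, mm v v.2⟩) fun s t => by
    refine Subtype.ext ?_
    change (s : G) * t * (a * (s * t) * a⁻¹) = s * (a * s * a⁻¹) * (t * (a * t * a⁻¹))
    rw [mul_assoc (s : G) (a * s * a⁻¹), ← mul_assoc (a * s * a⁻¹), (el_comm hV (cm s s.2) t.2).eq]
    group
  have h1 : Nat.card φ.ker ≤ Nat.card (V ⊓ Cn a : Subgroup G) := by
    refine Nat.card_le_card_of_injective (fun v => ⟨((v : V) : G), v.1.2, ?_⟩) fun s t e =>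
      Subtype.ext (Subtype.ext (Subtype.mk.inj e))
    have e : ((v : V) : G) * (a * (v : V) * a⁻¹) = 1 := congrArg Subtype.val (MonoidHom.mem_ker.1 v.2)
    have e2 := mul_left_cancel (e.trans (el_sq hV v.1.2).symm)
    exact mem_Cn.2 (mul_inv_eq_iff_eq_mul.1 e2)
  have h3 : φ.ker.index ≤ Nat.card (V ⊓ Cn a : Subgroup G) := by
    rw [index_ker]; exact card_le_card_group _
  rw [← φ.ker.card_mul_index, sq]
  exact Nat.mul_le_mul h1 h3

/-- The subgroup generated by an element of order `p` is a Sylow subgroup of every overgroup. -/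
theorem Th.not_dvd_relIndex (h : Th G p) {H : Subgroup G} {x : G} (hx : orderOf x = p)
    (hH : x ∈ H) : ¬ p ∣ (zpowers x).relIndex H := fun ⟨k, hk⟩ => by
  have e := GT.PG.relIndex_mul_card (zpowers_le.2 hH)
  rw [Nat.card_zpowers, hx, hk] at e
  exact h.shape.not_sq h.shape.prime h.shape.five_le
    (Dvd.dvd.trans ⟨k, by rw [← e]; ring⟩ (card_subgroup_dvd_card H))

omit [Finite G] in
theorem isP_zpowers {r : ℕ} {x : G} (hx : orderOf x = r) : IsPGroup r (zpowers x) :=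
  IsPGroup.of_card (n := 1) (by rw [Nat.card_zpowers, hx, pow_one])

/-- Sylow's count for the prime `p` in a subgroup. -/
theorem Th.norm_card (h : Th G p) {H : Subgroup G} {x : G} (hx : orderOf x = p) (hH : x ∈ H) :
    ∃ e n : ℕ, Nat.card (H ⊓ normalizer (zpowers x : Set G) : Subgroup G) = p * e ∧ e ∣ p - 1 ∧
      Nat.card H = p * e * n ∧ n % p = 1 := by
  have := Fact.mk h.shape.prime
  set N := normalizer (zpowers x : Set G) with hN
  have hx1 : zpowers x ≤ H ⊓ N := le_inf (zpowers_le.2 hH) le_normalizer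
  have e1 := GT.PG.relIndex_mul_card hx1
  rw [Nat.card_zpowers, hx] at e1
  refine ⟨(zpowers x).relIndex (H ⊓ N), (H ⊓ N).relIndex H, by rw [← e1, mul_comm], ?_, ?_, ?_⟩
  · have hc : IsCyclic (zpowers x) := inferInstance
    have k := card_dvd_of_injective _ (QuotientGroup.kerLift_injective
      (zpowers x).normalizerMonoidHom)
    rw [IsCyclic.card_mulAut, Nat.card_zpowers, hx, Nat.totient_prime h.shape.prime,
      normalizerMonoidHom_ker, GT.centralizer_zpowers] at k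
    have k2 : (zpowers x).relIndex N ∣ p - 1 := by
      have := h.sc x hx
      simp only [Cn] at this
      rw [this] at k
      exact k
    refine Dvd.dvd.trans ?_ k2
    have : ((zpowers x).subgroupOf N).Normal := normal_in_normalizer
    have k3 := relIndex_dvd_index_of_normal ((zpowers x).subgroupOf N) ((H ⊓ N).subgroupOf N)
    rwa [relIndex_subgroupOf inf_le_right] at k3
  · rw [← GT.PG.relIndex_mul_card (inf_le_left : H ⊓ N ≤ H), ← e1]; ring
  · let P : Sylow p H := GT.Tr.sylowOfRel (isP_zpowers hx) (h.not_dvd_relIndex hx hH)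
    have k := card_sylow_modEq_one p H
    rw [P.card_eq_index_normalizer] at k
    have e : normalizer ((P : Subgroup H) : Set H) = (H ⊓ N).subgroupOf H := by
      rw [GT.normalizer_eq_subgroupOf, GT.Tr.map_sylowOfRel _ _ (zpowers_le.2 hH), inf_subgroupOf_left]
    rw [← Nat.mod_eq_of_lt h.shape.prime.one_lt]
    exact (congrArg (fun U : Subgroup H => U.index % p) e).symm.trans k

/-- Subgroups of order `p` of a subgroup are conjugate in it. -/
theorem Th.conj_p (h : Th G p) {H : Subgroup G} {x x' : G} (hx : orderOf x = p)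
    (hx' : orderOf x' = p) (hH : x ∈ H) (hH' : x' ∈ H) :
    ∃ g ∈ H, zpowers x ^ᶜ g = zpowers x' := by
  have := Fact.mk h.shape.prime
  obtain ⟨g, hg, k⟩ := GT.Tr.exists_conj_le_sylowIn (isP_zpowers hx') (h.not_dvd_relIndex hx' hH')
    (isP_zpowers hx) (zpowers_le.2 hH)
  refine ⟨g, hg, GT.PG.eq_of_le_of_card_le (GT.map_conj_le_iff_forall.2 k) ?_⟩
  rw [GT.card_map_conj, Nat.card_zpowers, Nat.card_zpowers, hx, hx']

/-- A 2-group `X` normalising `Z < V` (2-groups) fixes a nontrivial coset of `Z` in `V`. -/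
theorem exists_fix {X V Z : Subgroup G} (hX : IsPGroup 2 X) (hV : IsPGroup 2 V) (hZ : Z < V)
    (h1 : X ≤ normalizer (V : Set G)) (h2 : X ≤ normalizer (Z : Set G))
    (h3 : V ≤ normalizer (Z : Set G)) :
    ∃ w ∈ V, w ∉ Z ∧ ∀ d ∈ X, d * w * d⁻¹ * w⁻¹ ∈ Z := by
  have _ := h2
  have _ := h3
  obtain ⟨n, hn⟩ := GT.PG.exists_iterCommutator_eq_bot_of_isPGroup hV hX h1
  obtain ⟨w, hw, hw', k⟩ := GT.PG.exists_notMem_commutator_mem_of_iterCommutator hn h1 hZ.not_ge
  refine ⟨w, hw, hw', fun d hd => ?_⟩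
  have := inv_mem (k d hd)
  rwa [commutatorElement_inv, commutatorElement_def] at this

/-- The involutions of the centre of a 2-group. -/
theorem exists_omega {Q : Subgroup G} (hQ : IsPGroup 2 Q) (h1 : Q ≠ ⊥) :
    ∃ V : Subgroup G, (∀ v : G, v ∈ V ↔ v ∈ Q ∧ v ∈ centralizer (Q : Set G) ∧ v * v = 1) ∧ V ≠ ⊥ ∧
      IsElementaryAbelian 2 V ∧ normalizer (Q : Set G) ≤ normalizer (V : Set G) := by
  let V : Subgroup G :=
    { carrier := {v | v ∈ Q ∧ v ∈ centralizer (Q : Set G) ∧ v * v = 1}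
      one_mem' := ⟨one_mem _, one_mem _, one_mul 1⟩
      mul_mem' := fun {a b} ha hb => ⟨mul_mem ha.1 hb.1, mul_mem ha.2.1 hb.2.1, by
        rw [mul_assoc, ← mul_assoc b, ha.2.1 b hb.1, mul_assoc, hb.2.2, mul_one, ha.2.2]⟩
      inv_mem' := fun {a} ha => ⟨inv_mem ha.1, inv_mem ha.2.1, by rw [← mul_inv_rev, ha.2.2, inv_one]⟩ }
  refine ⟨V, fun v => Iff.rfl, fun e => ?_, el_of_sq fun a ha => ha.2.2, fun g hg => ?_⟩
  · obtain ⟨n, hn⟩ := GT.PG.exists_iterCommutator_eq_bot_of_isPGroup hQ hQ le_normalizer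
    have k := GT.PG.inf_centralizer_ne_bot_of_iterCommutator hn le_normalizer h1
    have hZ : IsPGroup 2 (Q ⊓ centralizer (Q : Set G) : Subgroup G) := hQ.to_le inf_le_left
    obtain ⟨m, hm⟩ := hZ.exists_card_eq
    have : 2 ∣ Nat.card (Q ⊓ centralizer (Q : Set G) : Subgroup G) := by
      rw [hm]
      refine dvd_pow_self 2 fun e0 => k (eq_bot_of_card_eq _ ?_)
      rw [hm, e0, pow_zero]
    obtain ⟨z, hz⟩ := exists_prime_orderOf_dvd_card' 2 this
    have hz' : orderOf (z : G) = 2 := by rw [orderOf_coe, hz]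
    have : (z : G) ∈ V := ⟨z.2.1, z.2.2, by rw [← sq, ← hz', pow_orderOf_eq_one]⟩
    rw [e, mem_bot] at this
    simp [this] at hz'
  · refine GT.mem_normalizer_iff_of_finite.2 fun v hv => ⟨GT.conj_mem_of_mem_normalizer hg hv.1,
      GT.conj_mem_of_mem_normalizer (GT.Tr.normalizer_le_normalizer_centralizer Q hg) hv.2.1, ?_⟩
    rw [show g * v * g⁻¹ * (g * v * g⁻¹) = g * (v * v) * g⁻¹ by group, hv.2.2]; group

end Cfsg.Agent.K3P
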