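import Mathlib
import Cfsg.Agent.K3P.Defs
import Cfsg.Agent.K3.Lin
import Cfsg.Agent.Inv.RuTC

/-! The case `M / Q = GL(V)`: the action of `M` on `V`. -/

set_option autoImplicit false
open Cfsg Subgroup

namespace Cfsg.Agent.K3P

variable {G : Type*} [Group G] [Finite G] {M Q V : Subgroup G} {x y : G}

namespace BV

omit [Finite G] in
theorem VQ (c : CB M Q V x y) : V ≤ Q := fun v hv => ((c.mem v).1 hv).1

omit [Finite G] in
theorem cm (c : CB M Q V x y) {v q : G} (hv : v ∈ V) (hq : q ∈ Q) : Commute q v :=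
  ((c.mem v).1 hv).2.1 q hq

omit [Finite G] in
theorem sq (c : CB M Q V x y) {v : G} (hv : v ∈ V) : v * v = 1 := ((c.mem v).1 hv).2.2

omit [Finite G] in
theorem cj {H : Subgroup G} {m a : G} (hm : m ∈ normalizer (H : Set G)) (ha : a ∈ H) :
    m * a * m⁻¹ ∈ H := (mem_normalizer_iff.1 hm a).1 ha

omit [Finite G] in
theorem cj' {H : Subgroup G} {m a : G} (hm : m ∈ normalizer (H : Set G)) (ha : a ∈ H) :
    m⁻¹ * a * m ∈ H := by simpa using cj (inv_mem hm) ha

/-- `M` induces the full automorphism group of `V`. -/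
theorem surj (c : CB M Q V x y) (φ : MulAut V) :
    ∃ m ∈ M, ∀ v : V, (φ v : G) = m * v * m⁻¹ := by
  have h168 := (Inv.RuT.aut_eight (E := V) ⟨⟨fun a b => Subtype.ext (cm c b.2 (VQ c a.2))⟩⟩
    (fun a => Subtype.ext (by rw [pow_two]; exact sq c a.2)) c.cardV).2
  have e := V.normalizerMonoidHom.ker.card_mul_index
  rw [index_ker, normalizerMonoidHom_ker, c.cV,
    Nat.card_congr (subgroupOfEquivOfLe (c.nV ▸ c.QM : Q ≤ normalizer (V : Set G))).toEquiv,
    show Nat.card (normalizer (V : Set G)) = 168 * Nat.card Q by rw [c.nV, c.cardM], mul_comm] at e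
  have top : V.normalizerMonoidHom.range = ⊤ :=
    eq_top_of_card_eq _ (by rw [h168]; exact Nat.eq_of_mul_eq_mul_right Nat.card_pos e)
  obtain ⟨m, hm⟩ := MonoidHom.range_eq_top.1 top φ
  exact ⟨m, c.nV ▸ m.2, fun v => by rw [← hm]; rfl⟩

omit [Finite G] in
theorem cj_pow {φ : MulAut V} {m : G} (h : ∀ v : V, (φ v : G) = m * v * m⁻¹) (n : ℕ) (v : V) :
    ((φ ^ n) v : G) = m ^ n * v * (m ^ n)⁻¹ := by
  induction n generalizing v with
  | zero => simp
  | succ n ih => rw [pow_succ, MulAut.mul_apply, ih, h, pow_succ]; group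

/-- Automorphisms of odd prime order lift to elements of the same order. -/
theorem lift (c : CB M Q V x y) {p : ℕ} (hp : p.Prime) (ho : Odd p) {φ : MulAut V}
    (h7 : φ ^ p = 1) (h1 : φ ≠ 1) :
    ∃ m ∈ M, orderOf m = p ∧ ∀ v : V, (φ v : G) = m * v * m⁻¹ := by
  have : Fact p.Prime := ⟨hp⟩
  obtain ⟨m, hm, h⟩ := surj c φ
  have m7 : m ^ p ∈ Q := by
    rw [← c.cV]
    intro v hv
    have := cj_pow h p ⟨v, hv⟩
    rw [h7] at this
    exact eq_mul_inv_iff_mul_eq.1 this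
  obtain ⟨k, hk⟩ := c.two ⟨_, m7⟩
  have hk' : (m ^ p) ^ 2 ^ k = 1 := congrArg Subtype.val hk
  have cop : Nat.Coprime (2 ^ k) p := Nat.Coprime.pow_left _ (Nat.coprime_two_left.2 ho)
  obtain ⟨j, -, hj⟩ := Nat.exists_mul_mod_eq_one_of_coprime cop hp.one_lt
  have e : φ ^ (2 ^ k * j) = φ := by rw [pow_eq_pow_mod _ h7, hj, pow_one]
  have h' : ∀ v : V, (φ v : G) = m ^ (2 ^ k * j) * v * (m ^ (2 ^ k * j))⁻¹ := fun v => by
    rw [← cj_pow h, e]
  refine ⟨_, pow_mem hm _, orderOf_eq_prime ?_ fun e1 => h1 ?_, h'⟩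
  · rw [← pow_mul, mul_comm, ← mul_assoc, pow_mul, pow_mul, hk', one_pow]
  · ext v; rw [h', e1]; simp

omit [Finite G] in
/-- Elements of order seven fix no nontrivial element of a 2-group. -/
theorem fpf (h : Th G 7) {m a : G} (hm : orderOf m = 7) (ha : Tw a) (hc : Commute m a) : a = 1 := by
  have : a ∈ zpowers m := h.sc m hm ▸ mem_Cn.2 hc
  obtain ⟨k, hk⟩ := ha
  have d1 : orderOf a ∣ 7 := hm ▸ orderOf_dvd_of_mem_zpowers this
  have d2 := orderOf_dvd_of_pow_eq_one hk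
  exact orderOf_eq_one_iff.1 (Nat.eq_one_of_dvd_coprimes
    (Nat.Coprime.pow_right k (by norm_num : Nat.Coprime 7 2)) d1 d2)

omit [Finite G] in
theorem tw {H : Subgroup G} (hH : IsPGroup 2 H) {a : G} (ha : a ∈ H) : Tw a := by
  obtain ⟨k, hk⟩ := hH ⟨a, ha⟩
  exact ⟨k, congrArg Subtype.val hk⟩

/-- Every element of an invariant 2-subgroup is a commutator with an element of order seven. -/
theorem cs (h : Th G 7) {H : Subgroup G} (hH : IsPGroup 2 H) {m : G} (hm : orderOf m = 7)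
    (hn : m ∈ normalizer (H : Set G)) {q : G} (hq : q ∈ H) :
    ∃ a ∈ H, q = a⁻¹ * (m * a * m⁻¹) := by
  let f : H → H := fun a => ⟨(a : G)⁻¹ * (m * a * m⁻¹), mul_mem (inv_mem a.2) (cj hn a.2)⟩
  have inj : Function.Injective f := fun a b e => by
    have e' : (a : G)⁻¹ * (m * a * m⁻¹) = (b : G)⁻¹ * (m * b * m⁻¹) := congrArg Subtype.val e
    have : (b : G) * (a : G)⁻¹ = 1 := fpf h hm (tw hH (mul_mem b.2 (inv_mem a.2))) (by
      calc m * ((b : G) * (a : G)⁻¹) = b * ((b : G)⁻¹ * (m * b * m⁻¹)) * m * (a : G)⁻¹ := by group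
        _ = b * (a : G)⁻¹ * m := by rw [← e']; group)
    exact Subtype.ext (mul_inv_eq_one.1 this).symm
  obtain ⟨a, ha⟩ := Finite.surjective_of_injective inj ⟨q, hq⟩
  exact ⟨a, a.2, (congrArg Subtype.val ha).symm⟩

/-- `M` is transitive on the nontrivial elements of `V`. -/
theorem tr (h : Th G 7) (c : CB M Q V x y) {v w : G} (hv : v ∈ V) (v1 : v ≠ 1) (hw : w ∈ V)
    (w1 : w ≠ 1) : ∃ i : ℕ, x ^ i * v * (x ^ i)⁻¹ = w := by
  classical
  have xn : ∀ i : ℕ, x ^ i ∈ normalizer (V : Set G) := fun i => c.nV ▸ pow_mem c.xM i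
  let f : Fin 7 → {a : V // a ≠ 1} := fun i => ⟨⟨x ^ (i : ℕ) * v * (x ^ (i : ℕ))⁻¹, cj (xn i) hv⟩,
    fun e => v1 (by simpa using congrArg Subtype.val e)⟩
  have inj : Function.Injective f := by
    have key : ∀ i j : Fin 7, i < j → f i ≠ f j := fun i j ij e => by
      have e' : x ^ (i : ℕ) * v * (x ^ (i : ℕ))⁻¹ = x ^ (j : ℕ) * v * (x ^ (j : ℕ))⁻¹ :=
        congrArg (fun a => ((a.1 : V) : G)) e
      obtain ⟨d, hd⟩ := Nat.exists_eq_add_of_lt (show (i : ℕ) < j from ij)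
      have o : orderOf (x ^ (d + 1)) = 7 := by
        rw [orderOf_pow' _ (by omega), c.xo]
        have : d + 1 < 7 := by omega
        rw [(Nat.coprime_of_lt_prime (by omega) this (by norm_num)).gcd_eq_one]
      refine v1 (fpf h o ⟨1, by simpa [pow_two] using sq c hv⟩ ?_)
      rw [hd, add_assoc, pow_add] at e'
      calc x ^ (d + 1) * v = (x ^ (i : ℕ))⁻¹ * (x ^ (i : ℕ) * x ^ (d + 1) * v *
            (x ^ (i : ℕ) * x ^ (d + 1))⁻¹) * x ^ (i : ℕ) * x ^ (d + 1) := by group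
        _ = v * x ^ (d + 1) := by rw [← e']; group
    intro i j e
    rcases lt_trichotomy i j with l | l | l
    exacts [absurd e (key i j l), l, absurd e.symm (key j i l)]
  have hc : Nat.card (Fin 7) = Nat.card {a : V // a ≠ 1} := by
    have := Fintype.ofFinite V
    have e := c.cardV
    rw [Nat.card_eq_fintype_card] at e
    rw [Nat.card_eq_fintype_card (α := {a : V // a ≠ 1}), Fintype.card_subtype_compl, e]; simp
  obtain ⟨i, hi⟩ := (inj.bijective_of_nat_card_le hc.ge).2 ⟨⟨w, hw⟩, fun e => w1 (congrArg Subtype.val e)⟩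
  exact ⟨i, congrArg (fun a => ((a.1 : V) : G)) hi⟩

end BV

end Cfsg.Agent.K3P
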