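import Mathlib
import Cfsg.Agent.K3P.Bas
import Cfsg.Agent.K3P.BV
import Cfsg.Agent.K3P.Cen
import Cfsg.Agent.K3P.ToB

/-! Basic facts on the module `V` of order eight. -/

set_option autoImplicit false
set_option linter.unusedSectionVars false
open Cfsg Subgroup

namespace Cfsg.Agent.K3P

variable {G : Type*} [Group G] [Finite G] {M Q V : Subgroup G} {x y : G}

theorem CB.el (c : CB M Q V x y) : IsElementaryAbelian 2 V := el_of_sq fun _ ha => BV.sq c ha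

theorem CB.VQ (c : CB M Q V x y) : V ≤ Q := BV.VQ c

theorem CB.ord (c : CB M Q V x y) {v : G} (hv : v ∈ V) (h1 : v ≠ 1) : orderOf v = 2 :=
  ord_two (BV.sq c hv) h1

theorem CB.trans (h : Th G 7) (c : CB M Q V x y) {u v : G} (hu : u ∈ V) (hu1 : u ≠ 1) (hv : v ∈ V)
    (hv1 : v ≠ 1) : ∃ m ∈ zpowers x, m * u * m⁻¹ = v := by
  obtain ⟨i, hi⟩ := BV.tr h c hu hu1 hv hv1
  exact ⟨_, pow_mem (mem_zpowers x) i, hi⟩

theorem card_of_le_eight {U V : Subgroup G} (hU : U ≤ V) (h8 : Nat.card V = 8) :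
    Nat.card U = 1 ∨ Nat.card U = 2 ∨ Nat.card U = 4 ∨ Nat.card U = 8 := by
  have k : Nat.card U ∣ 8 := h8 ▸ card_dvd_of_le hU
  have := Nat.le_of_dvd (by norm_num) k
  generalize Nat.card U = n at *
  interval_cases n <;> simp_all

theorem CB.irr (h : Th G 7) (c : CB M Q V x y) {U : Subgroup G} (hU : U ≤ V)
    (hx : x ∈ normalizer (U : Set G)) : U = ⊥ ∨ U = V := by
  have k := h.card_mod ((two_of_el c.el).to_le hU) c.xo hx
  rcases card_of_le_eight hU c.cardV with e | e | e | e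
  · exact .inl (eq_bot_of_card_eq U e)
  · omega
  · omega
  · exact .inr (GT.PG.eq_of_le_of_card_le hU (by rw [c.cardV, e]))

theorem eq_zpowers_of_card_two {U : Subgroup G} (h : Nat.card U = 2) :
    ∃ v ∈ U, v ≠ 1 ∧ U = zpowers v := by
  obtain ⟨z, hz⟩ := exists_prime_orderOf_dvd_card' (G := U) 2 h.symm.dvd
  have hz' : orderOf (z : G) = 2 := by rw [orderOf_coe, hz]
  refine ⟨z, z.2, fun e => by simp [e] at hz', (GT.PG.eq_of_le_of_card_le (zpowers_le.2 z.2) ?_).symm⟩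
  rw [h, Nat.card_zpowers, hz']

theorem CB.fix (h : Th G 7) (c : CB M Q V x y) : ∃ v ∈ V, v ≠ 1 ∧ V ⊓ Cn y = zpowers v := by
  have k := h.cube c.xo c.yo c.yx (two_of_el c.el) (c.nV ▸ c.xM) (c.nV ▸ c.yM)
  rw [c.cardV] at k
  have e : Nat.card (V ⊓ Cn y : Subgroup G) = 2 :=
    Nat.pow_left_injective (by norm_num : 3 ≠ 0) (k.symm.trans (by norm_num))
  obtain ⟨v, hv, h1, h2⟩ := eq_zpowers_of_card_two e
  exact ⟨v, hv.1, h1, h2⟩

theorem CB.at (h : Th G 7) (c : CB M Q V x y) {v : G} (hv : v ∈ V) (h1 : v ≠ 1) :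
    ∃ y' : G, CB M Q V x y' ∧ V ⊓ Cn y' = zpowers v := by
  obtain ⟨u, hu, u1, e⟩ := c.fix h
  obtain ⟨m, hm, rfl⟩ := c.trans h hu u1 hv h1
  have mM : m ∈ M := zpowers_le.2 c.xM hm
  refine ⟨m * y * m⁻¹, { c with
    yM := mul_mem (mul_mem mM c.yM) (inv_mem mM)
    yo := by rw [GT.orderOf_conj, c.yo]
    yx := mul_mem (mul_mem (le_normalizer hm) c.yx) (inv_mem (le_normalizer hm)) }, ?_⟩
  rw [← GT.map_conj_zpowers, ← e, GT.map_conj_inf, GT.map_conj_eq_of_mem_norm (c.nV ▸ mM), Cn, Cn,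
    GT.centralizer_singleton_conj]

/-- A `y`-invariant subgroup of `V` properly containing the fixed points of `y` is `V`. -/
theorem CB.yirr (c : CB M Q V x y) {v : G} (h1 : v ≠ 1) (hv : V ⊓ Cn y = zpowers v)
    {U : Subgroup G} (hU : U ≤ V) (hvU : zpowers v < U) (hy : y ∈ normalizer (U : Set G)) :
    U = V := by
  have vV : v ∈ V := hU (hvU.le (mem_zpowers v))
  have k := card_mod_cn Nat.prime_three c.yo hy
  have e : U ⊓ Cn y = zpowers v :=
    le_antisymm (hv ▸ inf_le_inf_right _ hU) (le_inf hvU.le (hv ▸ inf_le_right))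
  have l := GT.PG.card_lt_of_lt hvU
  rw [e] at k
  rw [Nat.card_zpowers, c.ord vV h1] at k l
  refine GT.PG.eq_of_le_of_card_le hU ?_
  rw [c.cardV]
  rcases card_of_le_eight hU c.cardV with e | e | e | e <;> omega

theorem CB.inv (h : Th G 7) (c : CB M Q V x y) {v : G} (h1 : v ≠ 1) (hv : V ⊓ Cn y = zpowers v)
    {a : G} (ha : a ∈ Q) (hy : Commute y a) (h2 : a * a = 1) : a ∈ zpowers v := by
  have hv' : v ∈ V ⊓ Cn y := hv ▸ mem_zpowers v
  by_cases a1 : a = 1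
  · exact a1 ▸ one_mem _
  rw [h.four y a v c.yo (ord_two h2 a1) (c.ord hv'.1 h1) hy (mem_Cn.1 hv'.2) (BV.cm c hv'.1 ha)]
  exact mem_zpowers v

theorem CB.eq_V (h : Th G 7) (c : CB M Q V x y) {E : Subgroup G} (hE : IsElementaryAbelian 2 E)
    (hV : V ≤ E) (hx : x ∈ normalizer (E : Set G)) (hy : y ∈ normalizer (E : Set G)) : E = V := by
  refine (GT.PG.eq_of_le_of_card_le hV ?_).symm
  rw [h.cube c.xo c.yo c.yx (two_of_el hE) hx hy, c.cardV]
  exact Nat.pow_le_pow_left (h.card_cn_le hE c.yo) 3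

theorem CB.Q_le (h : Th G 7) (c : CB M Q V x y) {v : G} (hv : v ∈ V) (h1 : v ≠ 1) : Q ≤ DD v := by
  obtain ⟨y', c', e⟩ := c.at h hv h1
  have hv' : v ∈ V ⊓ Cn y' := e ▸ mem_zpowers v
  exact h.le_DD (c.ord hv h1) c'.yo (mem_Cn.2 (mem_Cn.1 hv'.2).symm) c.two
    (fun q hq => mem_Cn.2 (BV.cm c hv hq).symm) (c.nQ ▸ c'.yM)

theorem CB.comm (h : Th G 7) (c : CB M Q V x y) {v : G} (hv : v ∈ V) (h1 : v ≠ 1) :
    ∀ w ∈ V, ∀ d ∈ DD v ⊓ M, d * w * d⁻¹ * w⁻¹ ∈ zpowers v := by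
  obtain ⟨y', c', e⟩ := c.at h hv h1
  have hv' : v ∈ V ⊓ Cn y' := e ▸ mem_zpowers v
  have yv : y' ∈ Cn v := mem_Cn.2 (mem_Cn.1 hv'.2).symm
  have nz : Cn v ≤ normalizer (zpowers v : Set G) := by
    rw [Cn, ← GT.centralizer_zpowers]; exact GT.PG.centralizer_le_normalizer' _
  have Vv : V ≤ Cn v := fun w hw => mem_Cn.2 (el_comm c.el hv hw)
  have zV : zpowers v ≤ V := zpowers_le.2 hv
  have yD : y' ∈ normalizer ((DD v ⊓ M : Subgroup G) : Set G) :=
    zpowers_le.1 (GT.PG.le_normalizer_inf (zpowers_le.2 (nDD v yv))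
      (zpowers_le.2 (le_normalizer c'.yM)))
  let U : Subgroup G :=
    { carrier := {w | w ∈ V ∧ ∀ d ∈ DD v ⊓ M, d * w * d⁻¹ * w⁻¹ ∈ zpowers v}
      one_mem' := ⟨one_mem _, fun d _ => by simp⟩
      mul_mem' := fun {a b} ha hb => ⟨mul_mem ha.1 hb.1, fun d hd => by
        have := mul_mem (ha.2 d hd) (GT.conj_mem_of_mem_normalizer (nz (Vv ha.1)) (hb.2 d hd))
        convert this using 1; group⟩
      inv_mem' := fun {a} ha => ⟨inv_mem ha.1, fun d hd => by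
        have := GT.conj_mem_of_mem_normalizer' (nz (Vv ha.1)) (inv_mem (ha.2 d hd))
        convert this using 1; group⟩ }
  have lt : zpowers v < V := lt_of_le_of_ne zV fun k => by
    have := c.cardV
    rw [← k, Nat.card_zpowers, c.ord hv h1] at this
    omega
  obtain ⟨w, hw, hw', k⟩ := exists_fix (X := DD v ⊓ M) ((two_DD v).to_le inf_le_left) (two_of_el c.el)
    lt (c.nV ▸ inf_le_right) (inf_le_left.trans ((DD_le v).trans nz)) (Vv.trans nz)
  have hU : U = V := c'.yirr h1 e (fun _ ha => ha.1) (SetLike.lt_iff_le_and_exists.2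
    ⟨fun z hz => ⟨zV hz, fun d hd => mul_mem (GT.conj_mem_of_mem_normalizer (nz (DD_le v hd.1)) hz)
      (inv_mem hz)⟩, w, (⟨hw, k⟩ : w ∈ V ∧ _), hw'⟩)
    (GT.mem_normalizer_iff_of_finite.2 fun a ha =>
      ⟨GT.conj_mem_of_mem_normalizer (c.nV ▸ c'.yM) ha.1, fun d hd => by
        have := GT.conj_mem_of_mem_normalizer (nz yv)
          (ha.2 _ (GT.conj_mem_of_mem_normalizer' yD hd))
        convert this using 1; group⟩)
  intro w hw
  exact (hU.ge hw).2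

end Cfsg.Agent.K3P
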