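import Mathlib
import Cfsg.Agent.K3P.Defs
import Cfsg.Agent.K3P.Bas
import Cfsg.Agent.K3P.Cen
import Cfsg.Agent.K3P.B1
import Cfsg.Agent.Loc.MssBase

/-! The case `M / Q = GL(3, 2)`, `Q ≠ V`: centralisers lie in `M` and `V` is a TI-subgroup. -/

set_option autoImplicit false
set_option linter.unusedSectionVars false
open Cfsg Subgroup

namespace Cfsg.Agent.K3P

open Cfsg.Agent.GT Cfsg.Agent.Loc.Mss
open scoped commutatorElement

variable {G : Type*} [Group G] [Finite G] {M Q V : Subgroup G} {x y : G}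

theorem b2_mem_zpowers {v e : G} (hv : v * v = 1) (he : e ∈ zpowers v) : e = 1 ∨ e = v := by
  obtain ⟨j, rfl⟩ := he
  have h2 : v ^ (2 : ℤ) = 1 := by rw [zpow_two, hv]
  rcases Int.even_or_odd' j with ⟨k, rfl | rfl⟩
  · left; show v ^ (2 * k) = 1; rw [zpow_mul, h2, one_zpow]
  · right; show v ^ (2 * k + 1) = v; rw [zpow_add, zpow_mul, h2, one_zpow, one_mul, zpow_one]

/-- An involution of `Q` whose commutators with `Q` lie in `⟨u⟩`. -/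
def B2T (Q : Subgroup G) (a u : G) : Prop :=
  a ∈ Q ∧ a * a = 1 ∧ ∀ w ∈ Q, a * w * a⁻¹ * w⁻¹ ∈ zpowers u

theorem B2T.conj {a u m : G} (t : B2T Q a u) (hm : m ∈ 𝐍[Q]) :
    B2T Q (m * a * m⁻¹) (m * u * m⁻¹) := by
  refine ⟨conj_mem_of_norm hm t.1, by rw [conj_mul, t.2.1]; simp, fun w hw => ?_⟩
  rw [← map_conj_zpowers, mem_cj]
  have := t.2.2 _ (conj_mem_of_norm' hm hw)
  convert this using 1
  group

theorem B2T.comm {a b u v : G} (s : B2T Q a u) (t : B2T Q b v) (hu : u * u = 1) (hv : v * v = 1)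
    (huv : u ≠ v) : Commute a b := by
  have h1 := b2_mem_zpowers hu (s.2.2 b t.1)
  have h2 := b2_mem_zpowers hv (inv_mem (t.2.2 a s.1))
  rw [show (b * a * b⁻¹ * a⁻¹)⁻¹ = a * b * a⁻¹ * b⁻¹ by group] at h2
  have : a * b * a⁻¹ * b⁻¹ = 1 := by
    rcases h1 with e | e
    · exact e
    · exact h2.resolve_right fun e' => huv (e.symm.trans e')
  rwa [mul_inv_eq_one, mul_inv_eq_iff_eq_mul] at this

theorem CB.b2_inQ (h : Th G 7) (c : CB M Q V x y) {a u : G} (t : B2T Q a u) (hu : u ∈ V) :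
    a ∈ V := by
  have fin : ∀ a, a ∈ Q → a * a = 1 → (∀ w ∈ Q, a * w * a⁻¹ * w⁻¹ = 1) → a ∈ V :=
    fun a h1 h2 h3 => (c.mem a).2 ⟨h1, mem_cent.2 fun w hw => by
      have := h3 w hw
      rw [mul_inv_eq_one, mul_inv_eq_iff_eq_mul] at this
      exact this.symm, h2⟩
  by_cases u1 : u = 1
  · exact fin a t.1 t.2.1 fun w hw => by simpa [u1] using t.2.2 w hw
  obtain ⟨v0, hv0, n0, e0⟩ := c.fix h
  have yV : y ∈ 𝐍[V] := c.nV ▸ c.yM
  have yQ : y ∈ 𝐍[Q] := c.nQ ▸ c.yM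
  have y3 : y * (y * y) = 1 := by rw [← pow_three, ← c.yo, pow_orderOf_eq_one]
  have y3' : ∀ a : G, y * (y * (y * a * y⁻¹) * y⁻¹) * y⁻¹ = a := fun a => by
    calc _ = y * (y * y) * a * (y * (y * y))⁻¹ := by group
      _ = a := by rw [y3]; group
  have fx : ∀ w ∈ V, y * w * y⁻¹ = w → w ∈ zpowers v0 := fun w hw e =>
    e0 ▸ ⟨hw, mem_Cn.2 (mul_inv_eq_iff_eq_mul.1 e)⟩
  have y0 : y * v0 * y⁻¹ = v0 :=
    mul_inv_eq_iff_eq_mul.2 (mem_Cn.1 (e0.ge (mem_zpowers v0)).2)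
  have s0 := el_sq c.el hv0
  obtain ⟨v1, hv1, n1, p1⟩ : ∃ v1 ∈ V, v1 ∉ zpowers v0 ∧
      v1 * (y * v1 * y⁻¹) * (y * (y * v1 * y⁻¹) * y⁻¹) ≠ 1 := by
    obtain ⟨w, hw, nw⟩ : ∃ w ∈ V, w ∉ zpowers v0 := by
      by_contra! e
      have := card_le_of_le (show V ≤ zpowers v0 from e)
      rw [c.cardV, Nat.card_zpowers, c.ord hv0 n0] at this
      omega
    by_cases e : w * (y * w * y⁻¹) * (y * (y * w * y⁻¹) * y⁻¹) = 1
    · refine ⟨w * v0, mul_mem hw hv0, fun e1 => nw ((mul_mem_cancel_right (mem_zpowers v0)).1 e1),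
        fun e1 => n0 ?_⟩
      have h2 := conj_mem_of_norm yV hw
      have h3 := conj_mem_of_norm yV h2
      rw [← conj_mul, y0, ← conj_mul, y0] at e1
      generalize y * (y * w * y⁻¹) * y⁻¹ = w3 at h3 e e1
      generalize y * w * y⁻¹ = w2 at h2 e e1
      rw [mul_assoc w v0, ← mul_assoc v0 w2, (el_comm c.el hv0 h2).eq, mul_assoc w2, s0, mul_one,
        ← mul_assoc, e, one_mul] at e1
      exact e1
    · exact ⟨w, hw, nw, e⟩
  have v11 : v1 ≠ 1 := fun e => n1 (e ▸ one_mem _)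
  obtain ⟨m, hm, rfl⟩ := c.trans h hu u1 hv1 v11
  have mM : m ∈ M := zpowers_le.2 c.xM hm
  have t1 := t.conj (c.nQ ▸ mM : m ∈ 𝐍[Q])
  suffices hs : m * a * m⁻¹ ∈ V by
    simpa [mul_assoc] using conj_mem_of_norm' (c.nV ▸ mM : m ∈ 𝐍[V]) hs
  generalize m * a * m⁻¹ = a1 at t1
  generalize m * u * m⁻¹ = v1 at t1 hv1 n1 p1 v11
  have t2 := t1.conj yQ
  have t3 := t2.conj yQ
  have hv2 := conj_mem_of_norm yV hv1
  have hv3 := conj_mem_of_norm yV hv2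
  have d12 : v1 ≠ y * v1 * y⁻¹ := fun e => n1 (fx _ hv1 e.symm)
  have d23 : y * v1 * y⁻¹ ≠ y * (y * v1 * y⁻¹) * y⁻¹ := fun e => d12 (by simpa using e)
  have d13 : v1 ≠ y * (y * v1 * y⁻¹) * y⁻¹ := fun e =>
    d12 ((y3' v1).symm.trans (by rw [← e]))
  have ea := y3' a1
  have ec : y * (a1 * (y * a1 * y⁻¹) * (y * (y * a1 * y⁻¹) * y⁻¹)) * y⁻¹ =
      y * a1 * y⁻¹ * (y * (y * a1 * y⁻¹) * y⁻¹) * a1 := by
    rw [← conj_mul, ← conj_mul, ea]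
  generalize y * (y * a1 * y⁻¹) * y⁻¹ = a3 at t3 ec
  generalize y * a1 * y⁻¹ = a2 at t2 ec
  generalize y * (y * v1 * y⁻¹) * y⁻¹ = v3 at t3 hv3 d23 d13 p1
  generalize y * v1 * y⁻¹ = v2 at t2 hv2 d12 d23 p1
  have s1 := el_sq c.el hv1
  have s2 := el_sq c.el hv2
  have s3 := el_sq c.el hv3
  have c12 := t1.comm t2 s1 s2 d12
  have c13 := t1.comm t3 s1 s3 d13
  have c23 := t2.comm t3 s2 s3 d23
  have hc : a1 * a2 * a3 ∈ zpowers v0 := by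
    refine c.inv h n0 e0 (mul_mem (mul_mem t1.1 t2.1) t3.1) (mul_inv_eq_iff_eq_mul.1 ?_) ?_
    · rw [ec, ← (c12.mul_right c13).eq, mul_assoc]
    · rw [← pow_two, (c13.mul_left c23).mul_pow, c12.mul_pow, pow_two, pow_two, pow_two, t1.2.1,
        t2.2.1, t3.2.1, one_mul, one_mul]
  have cc : ∀ e ∈ V, ∀ w ∈ Q, w * e = e * w := fun e he => mem_cent.1 ((c.mem e).1 he).2.1
  refine fin a1 t1.1 t1.2.1 fun w hw => ?_
  have k1 := t1.2.2 w hw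
  have k2 := t2.2.2 w hw
  have k3 := t3.2.2 w hw
  have k0 := cc _ (zpowers_le.2 hv0 hc) w hw
  have l2 := cc _ (zpowers_le.2 hv2 k2) a1 t1.1
  have l3 := cc _ (zpowers_le.2 hv3 k3) _ (mul_mem t1.1 t2.1)
  have e : a3 * w * a3⁻¹ * w⁻¹ * (a2 * w * a2⁻¹ * w⁻¹) * (a1 * w * a1⁻¹ * w⁻¹) = 1 := by
    calc _ = a3 * w * a3⁻¹ * w⁻¹ * (a2 * w * a2⁻¹ * w⁻¹ * a1) * w * a1⁻¹ * w⁻¹ := by group
      _ = a3 * w * a3⁻¹ * w⁻¹ * (a1 * a2) * w * a2⁻¹ * a1⁻¹ * w⁻¹ := by rw [← l2]; group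
      _ = a1 * a2 * a3 * w * (a1 * a2 * a3)⁻¹ * w⁻¹ := by rw [← l3]; group
      _ = 1 := by rw [← k0]; group
  refine (b2_mem_zpowers s1 k1).resolve_right fun e1 => ?_
  rw [e1] at e
  have inv : ∀ {s t : G}, s * s = 1 → s * t = 1 → t = s := fun hs ht =>
    mul_left_cancel (ht.trans hs.symm)
  rcases b2_mem_zpowers s2 k2 with e2 | e2 <;> rcases b2_mem_zpowers s3 k3 with e3 | e3 <;>
    rw [e2, e3] at e
  · exact v11 (by simpa using e)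
  · exact d13 (inv s3 (by simpa using e))
  · exact d12 (inv s2 (by simpa using e))
  · refine p1 ?_
    rw [(el_comm c.el hv1 hv2).eq, (el_comm c.el (mul_mem hv2 hv1) hv3).eq, ← mul_assoc, e]

theorem CB.transv (h : Th G 7) (c : CB M Q V x y) (hne : Q ≠ V) {a u : G} (ha : a ∈ M)
    (h2 : a * a = 1) (hu : u ∈ V) (hc : ∀ w ∈ Q, a * w * a⁻¹ * w⁻¹ ∈ zpowers u) : a ∈ V := by
  by_cases aQ : a ∈ Q
  · exact c.b2_inQ h ⟨aQ, h2, hc⟩ hu
  exfalso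
  have hx : x ∈ cmod Q V := by
    refine c.big _ ((cmod_le_norm Q V).trans c.nV.le) (norm_cmod c.nQ.ge c.nV.ge)
      (fun hle => aQ (hle (mem_cmod.2 ⟨c.nV.ge ha, fun w hw => ?_⟩))) x c.xM c.xo
    have := inv_mem (zpowers_le.2 hu (hc w hw))
    rwa [show (a * w * a⁻¹ * w⁻¹)⁻¹ = ⁅w, a⁆ by rw [commutatorElement_def]; group] at this
  let f : Q → V := fun w => ⟨⁅(w : G), x⁆, (mem_cmod.1 hx).2 w w.2⟩
  have fi : Function.Injective f := by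
    intro w w' e
    have e1 : ⁅(w : G), x⁆ = ⁅(w' : G), x⁆ := congrArg Subtype.val e
    rw [commutatorElement_def, commutatorElement_def, mul_left_inj] at e1
    have e2 := h.fpf c.xo (v := (w' : G)⁻¹ * w) (by
      show x * _ = _ * x
      calc x * ((w' : G)⁻¹ * w) = (w' : G)⁻¹ * (w' * x * (w' : G)⁻¹) * w := by group
        _ = _ := by rw [← e1]; group) (tw_of_mem c.two (mul_mem (inv_mem w'.2) w.2))
    exact Subtype.ext (inv_mul_eq_one.1 e2).symm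
  exact hne (eq_of_le_of_card_ge c.VQ (Nat.card_le_card_of_injective f fi)).symm

theorem CB.cn_le (h : Th G 7) (c : CB M Q V x y) (hne : Q ≠ V) {v : G} (hv : v ∈ V) (h1 : v ≠ 1) :
    Cn v ≤ M := by
  have QD : Q ≤ DD v ⊓ M := le_inf (c.Q_le h hv h1) c.QM
  have claim : ∀ n ∈ Cn v, n ∈ 𝐍[DD v ⊓ M] → n ∈ M := by
    intro n hn nn
    refine c.nV ▸ mem_norm_of_cj_le (cj_le_iff.2 fun w hw => ?_)
    refine c.transv h hne (conj_mem_of_norm nn (QD (c.VQ hw))).2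
      (by rw [conj_mul, el_sq c.el hw]; simp) hv fun d hd => ?_
    have h3 := inv_mem (c.comm h hv h1 w hw _ (conj_mem_of_norm' nn (QD hd)))
    have h4 : n * v * n⁻¹ = v := mul_inv_eq_iff_eq_mul.2 (mem_Cn.1 hn).symm
    rw [← h4, ← map_conj_zpowers, mem_cj]
    convert h3 using 1
    group
  have e : DD v ⊓ M = DD v := by
    by_contra hn
    obtain ⟨n, h2, h3⟩ := SetLike.exists_of_lt
      (GT.Tr.lt_inf_normalizer (two_DD v) (lt_of_le_of_ne inf_le_left hn))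
    exact h3 ⟨h2.1, claim n (DD_le v h2.1) h2.2⟩
  exact fun n hn => claim n hn (e.symm ▸ nDD v hn)

theorem CB.ti (h : Th G 7) (c : CB M Q V x y) (hne : Q ≠ V) (g : G) :
    V ^ᶜ g = V ∨ V ^ᶜ g ⊓ V = ⊥ := by
  refine or_iff_not_imp_right.2 fun hb => ?_
  obtain ⟨⟨v, hv⟩, v1⟩ := ne_bot_iff_exists_ne_one.1 hb
  have v1' : v ≠ 1 := fun e => v1 (Subtype.ext e)
  obtain ⟨m, hm, e⟩ := c.trans h (mem_cj.1 hv.1) (fun e => v1' (by
    calc v = g * (g⁻¹ * v * g) * g⁻¹ := by group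
      _ = 1 := by rw [e]; group)) hv.2 v1'
  have h3 : m * g⁻¹ ∈ M := c.cn_le h hne hv.2 v1' (mem_Cn.2 (by
    show v * _ = _ * v
    calc v * (m * g⁻¹) = m * (g⁻¹ * v * g) * m⁻¹ * (m * g⁻¹) := by rw [e]
      _ = _ := by group))
  exact cj_of_norm (c.nV ▸ inv_mem_iff.1 ((mul_mem_cancel_left (zpowers_le.2 c.xM hm)).1 h3))

theorem CB.cn_le' (h : Th G 7) (c : CB M Q V x y) (hne : Q ≠ V) {g b : G} (hb : b ∈ V ^ᶜ g)
    (h1 : b ≠ 1) : Cn b ≤ normalizer ((V ^ᶜ g : Subgroup G) : Set G) := by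
  obtain ⟨v, hv, rfl⟩ := mem_map_conj_iff_exists.1 hb
  rw [← cj_norm, Cn, centralizer_singleton_conj, c.nV]
  exact cj_mono g (c.cn_le h hne hv fun e => h1 (by simp [e]))

theorem CB.conj_le (h : Th G 7) (c : CB M Q V x y) (hne : Q ≠ V) {g : G} (hg : V ^ᶜ g ≤ M) :
    V ^ᶜ g ≤ Q := by
  rcases c.ti h hne g with e | e
  · exact e.le.trans c.VQ
  have eV := el_conj c.el g
  have key : ∀ b ∈ V ^ᶜ g, b ≠ 1 → ∀ w ∈ V, Commute b w → w ∈ 𝐂[V ^ᶜ g] := by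
    intro b hb b1 w hw hc
    refine mem_cent.2 fun d hd => ?_
    have h1 : d * w * d⁻¹ * w⁻¹ ∈ V ^ᶜ g ⊓ V := by
      refine mem_inf.2 ⟨?_, mul_mem (conj_mem_of_norm (c.nV.ge (hg hd)) hw) (inv_mem hw)⟩
      rw [show d * w * d⁻¹ * w⁻¹ = d * (w * d⁻¹ * w⁻¹) by group]
      exact mul_mem hd (conj_mem_of_norm (c.cn_le' h hne hb b1 (mem_Cn.2 hc)) (inv_mem hd))
    rwa [e, mem_bot, mul_inv_eq_one, mul_inv_eq_iff_eq_mul] at h1
  refine c.cV ▸ cent_comm fun w hw => by_contra fun wn => wn ?_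
  have hm : ∀ b ∈ V ^ᶜ g, b * w * b⁻¹ * w⁻¹ ∈ V ⊓ 𝐂[V ^ᶜ g] := by
    intro b hb
    have h1 := conj_mem_of_norm (c.nV.ge (hg hb)) hw
    have h2 := mul_mem h1 (inv_mem hw)
    refine ⟨h2, ?_⟩
    by_cases b1 : b = 1
    · simp [b1]
    refine key b hb b1 _ h2 (mul_inv_eq_iff_eq_mul.1 ?_)
    have bb := el_sq eV hb
    have ww := inv_eq_of_mul_eq_one_right (el_sq c.el hw)
    calc _ = b * b * w * (b * b)⁻¹ * (b * w⁻¹ * b⁻¹) := by group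
      _ = w * (b * w * b⁻¹) := by rw [bb, ww]; group
      _ = _ := by rw [ww, (el_comm c.el hw h1).eq]
  let f : (V ^ᶜ g : Subgroup G) → (V ⊓ 𝐂[V ^ᶜ g] : Subgroup G) := fun b => ⟨_, hm b b.2⟩
  have fi : Function.Injective f := by
    intro b b' e1
    have e2 : (b : G) * w * (b : G)⁻¹ * w⁻¹ = b' * w * (b' : G)⁻¹ * w⁻¹ := congrArg Subtype.val e1
    rw [mul_left_inj] at e2
    by_contra hn
    refine wn (key _ (mul_mem (inv_mem b'.2) b.2)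
      (fun e3 => hn (Subtype.ext (inv_mul_eq_one.1 e3).symm)) w hw ?_)
    show _ * w = w * _
    calc (b' : G)⁻¹ * b * w = (b' : G)⁻¹ * (b * w * (b : G)⁻¹) * b := by group
      _ = _ := by rw [e2]; group
  have h5 := Nat.card_le_card_of_injective f fi
  rw [card_cj] at h5
  exact ((eq_of_le_of_card_ge inf_le_left h5).ge hw).2

end Cfsg.Agent.K3P
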