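import Mathlib
import Cfsg.Agent.K3P.BV

/-! The trace lemma: an equivariant commutator pairing with values in `V` vanishes. -/

set_option autoImplicit false
open Cfsg Subgroup

namespace Cfsg.Agent.K3P

theorem BV.aux {G : Type*} [Group G] {u a b : G}
    (k2 : a⁻¹ * (u * b * u⁻¹ * b⁻¹) = u * b * u⁻¹ * b⁻¹ * a⁻¹)
    (k3 : a⁻¹ * (u * a * u⁻¹ * a⁻¹) = u * a * u⁻¹ * a⁻¹ * a⁻¹)
    (k4 : u * a * u⁻¹ * a⁻¹ * (u * a * u⁻¹ * a⁻¹) = 1)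
    (k5 : u * a * u⁻¹ * a⁻¹ * (u * b * u⁻¹ * b⁻¹) = u * b * u⁻¹ * b⁻¹ * (u * a * u⁻¹ * a⁻¹)) :
    u * (a⁻¹ * b) * u⁻¹ * (a⁻¹ * b)⁻¹ = u * b * u⁻¹ * b⁻¹ * (u * a * u⁻¹ * a⁻¹) := by
  have e : u * (a⁻¹ * b) * u⁻¹ * (a⁻¹ * b)⁻¹ =
      a⁻¹ * (u * a * u⁻¹ * a⁻¹)⁻¹ * (u * b * u⁻¹ * b⁻¹) * a := by group
  rw [e, inv_eq_of_mul_eq_one_right k4, k3, mul_assoc _ a⁻¹, k2, ← k5]
  group

variable {G : Type*} [Group G] [Finite G] {M Q V : Subgroup G} {x y : G}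

theorem CB.trace (h : Th G 7) (c : CB M Q V x y) {W : Subgroup G} (hW : W ≤ Q)
    (hn : M ≤ normalizer (W : Set G)) (n : ℕ) (hV : ∀ w ∈ W, w ^ n ∈ V)
    (hmul : ∀ a ∈ W, ∀ b ∈ W, (a * b) ^ n = a ^ n * b ^ n) (hne : ∃ w ∈ W, w ^ n ≠ 1)
    (hker : ∀ w ∈ W, w ^ n = 1 → w ∈ centralizer (Q : Set G))
    (hc : ∀ w ∈ W, ∀ q ∈ Q, w * q * w⁻¹ * q⁻¹ ∈ V) : W ≤ centralizer (Q : Set G) := by
  let _ : CommGroup V :=
    { (inferInstance : Group V) with mul_comm := fun a b => Subtype.ext (BV.cm c b.2 (BV.VQ c a.2)) }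
  have xn : ∀ m ∈ M, m ∈ normalizer (Q : Set G) := fun m hm => c.nQ ▸ hm
  have su : ∀ v : V, ∃ w ∈ W, w ^ n = v := fun v => by
    by_cases v1 : (v : G) = 1
    · exact ⟨1, one_mem _, by rw [one_pow, v1]⟩
    obtain ⟨w, hw, w1⟩ := hne
    obtain ⟨i, hi⟩ := BV.tr h c (hV w hw) w1 v.2 v1
    exact ⟨_, BV.cj (hn (pow_mem c.xM i)) hw, by rw [conj_pow, hi]⟩
  choose s sW sn using su
  have wd : ∀ a ∈ W, ∀ b ∈ W, a ^ n = b ^ n → ∀ q ∈ Q,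
      a * q * a⁻¹ * q⁻¹ = b * q * b⁻¹ * q⁻¹ := fun a ha b hb e q hq => by
    have k := hmul a ha (a⁻¹ * b) (mul_mem (inv_mem ha) hb)
    rw [mul_inv_cancel_left, ← e, left_eq_mul] at k
    have := hker _ (mul_mem (inv_mem ha) hb) k q hq
    calc a * q * a⁻¹ * q⁻¹ = a * (q * (a⁻¹ * b)) * b⁻¹ * q⁻¹ := by group
      _ = b * q * b⁻¹ * q⁻¹ := by rw [this]; group
  have ad : ∀ a ∈ W, ∀ b ∈ W, ∀ q ∈ Q, a * b * q * (a * b)⁻¹ * q⁻¹ =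
      a * q * a⁻¹ * q⁻¹ * (b * q * b⁻¹ * q⁻¹) := fun a ha b hb q hq => by
    have k := (BV.cm c (hc b hb q hq) (hW ha)).eq
    have k2 := (BV.cm c (hc b hb q hq) (BV.VQ c (hc a ha q hq))).eq
    calc a * b * q * (a * b)⁻¹ * q⁻¹ = a * (b * q * b⁻¹ * q⁻¹) * (q * a⁻¹ * q⁻¹) := by group
      _ = _ := by rw [k, k2]; group
  let E : ∀ q ∈ Q, V →* V := fun q hq => MonoidHom.mk'
    (fun v => ⟨s v * q * (s v)⁻¹ * q⁻¹, hc _ (sW v) q hq⟩) fun a b => Subtype.ext (by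
      change _ = _ * _
      rw [← ad _ (sW a) _ (sW b) q hq]
      exact wd _ (sW _) _ (mul_mem (sW a) (sW b)) (by
        rw [hmul _ (sW a) _ (sW b), sn, sn, sn]; rfl) q hq)
  have EE : ∀ q (hq : q ∈ Q) v, (E q hq v : G) = s v * q * (s v)⁻¹ * q⁻¹ := fun _ _ _ => rfl
  intro w hw q hq
  have key := K3.lin (V := V) (fun v => Subtype.ext (by rw [pow_two]; exact BV.sq c v.2)) c.cardV
    (E q hq) (fun φ p7 p1 => by
      obtain ⟨m, hm, mo, hφ⟩ := BV.lift c (by norm_num) (by decide) p7 p1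
      obtain ⟨a, ha, e⟩ := BV.cs h c.two mo (xn m hm) hq
      refine ⟨E a ha, fun v => Subtype.ext ?_⟩
      have k1 : s (φ v) * (m * a * m⁻¹) * (s (φ v))⁻¹ * (m * a * m⁻¹)⁻¹ =
          m * (s v * a * (s v)⁻¹ * a⁻¹) * m⁻¹ := by
        rw [wd _ (sW _) _ (BV.cj (hn hm) (sW v)) (by rw [conj_pow, sn, sn, hφ]) _
          (BV.cj (xn m hm) ha)]
        group
      have k2 := (BV.cm c (hc _ (sW (φ v)) _ (BV.cj (xn m hm) ha)) (inv_mem ha)).eq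
      have k3 := (BV.cm c (hc _ (sW (φ v)) _ ha) (inv_mem ha)).eq
      have k4 := BV.sq c (hc _ (sW (φ v)) _ ha)
      have k5 := (BV.cm c (hc _ (sW (φ v)) _ (BV.cj (xn m hm) ha))
        (BV.VQ c (hc _ (sW (φ v)) _ ha))).eq
      rw [coe_mul, hφ, EE q hq, EE a ha, EE a ha, ← k1, e]
      exact BV.aux k2 k3 k4 k5) ⟨w ^ n, hV w hw⟩
  have k := congrArg Subtype.val key
  rw [EE q hq, wd _ (sW _) _ hw (sn _) q hq] at k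
  have : w * q * w⁻¹ * q⁻¹ = 1 := k
  calc q * w = (w * q * w⁻¹ * q⁻¹) * q * w := by rw [this, one_mul]
    _ = w * q := by group

end Cfsg.Agent.K3P
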