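import Mathlib
import Cfsg.Agent.K3P.Bas
import Cfsg.Agent.K3P.B1
import Cfsg.Agent.K3P.ToB
import Cfsg.Agent.K3P.TR

/-! An `M`-invariant abelian subgroup properly above `V` forces `Q` to be abelian. -/

set_option autoImplicit false
open Cfsg Subgroup

namespace Cfsg.Agent.K3P

variable {G : Type*} [Group G] [Finite G] {M Q V : Subgroup G} {x y : G}

namespace B3a

omit [Finite G] in
/-- A power outside `Z` whose square is inside. -/
theorem ex_pow {Z : Subgroup G} {a : G} (ha : Tw a) (h : a ∉ Z) :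
    ∃ i : ℕ, a ^ 2 ^ i ∉ Z ∧ a ^ 2 ^ i * a ^ 2 ^ i ∈ Z := by
  classical
  have ex : ∃ k : ℕ, a ^ 2 ^ k ∈ Z := Exists.imp (fun k hk => by rw [hk]; exact one_mem Z) ha
  have h0 : Nat.find ex ≠ 0 := fun e => h (by simpa [e] using Nat.find_spec ex)
  obtain ⟨i, hi⟩ := Nat.exists_eq_succ_of_ne_zero h0
  refine ⟨i, Nat.find_min ex (by omega), ?_⟩
  have := Nat.find_spec ex
  rwa [hi, pow_succ, pow_mul, pow_two] at this

omit [Finite G] in
theorem sq_comm {w q : G} (h1 : Commute w (w * q * w⁻¹ * q⁻¹)) :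
    w * w * q * (w * w)⁻¹ * q⁻¹ = w * q * w⁻¹ * q⁻¹ * (w * q * w⁻¹ * q⁻¹) := by
  calc w * w * q * (w * w)⁻¹ * q⁻¹ = w * (w * q * w⁻¹ * q⁻¹) * (q * w⁻¹ * q⁻¹) := by group
    _ = _ := by rw [h1.eq]; group

theorem nrm {H : Subgroup G} (h : ∀ m ∈ M, ∀ a ∈ H, m * a * m⁻¹ ∈ H) :
    M ≤ normalizer (H : Set G) := fun m hm => GT.mem_normalizer_iff_of_finite.2 (h m hm)

/-- The centre of `Q` is larger than `V`. -/
theorem big (h : Th G 7) (c : CB M Q V x y) {A : Subgroup G} (hVA : V ≤ A) (hne : A ≠ V)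
    (hc : IsMulCommutative A) (hn : ∀ m ∈ M, ∀ a ∈ A, m * a * m⁻¹ ∈ A) :
    ∃ z ∈ Q ⊓ centralizer (Q : Set G), z * z ≠ 1 := by
  have cm : ∀ a ∈ A, ∀ b ∈ A, Commute a b := fun a ha b hb =>
    congrArg Subtype.val (hc.is_comm.comm ⟨a, ha⟩ ⟨b, hb⟩)
  have AQ : A ≤ Q := fun a ha => c.cV ▸ fun v hv => cm v (hVA hv) a ha
  let E : Subgroup G :=
    { carrier := {a | a ∈ A ∧ a * a = 1}
      one_mem' := ⟨one_mem _, one_mul _⟩
      mul_mem' := fun {a b} ha hb => ⟨mul_mem ha.1 hb.1, by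
        rw [(cm a ha.1 b hb.1).symm.mul_mul_mul_comm, ha.2, hb.2, one_mul]⟩
      inv_mem' := fun {a} ha => ⟨inv_mem ha.1, by rw [← mul_inv_rev, ha.2, inv_one]⟩ }
  have nE : M ≤ normalizer (E : Set G) := nrm fun m hm a ha => ⟨hn m hm a ha.1, by
    rw [conj_mul, ha.2]; simp⟩
  have EV : E = V := c.eq_V h (el_of_sq fun a ha => ha.2) (fun v hv => ⟨hVA hv, BV.sq c hv⟩)
    (nE c.xM) (nE c.yM)
  have om : ∀ a ∈ A, a * a = 1 → a ∈ V := fun a ha e => EV ▸ (⟨ha, e⟩ : a ∈ E)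
  let W : Subgroup G :=
    { carrier := {a | a ∈ A ∧ a * a ∈ V}
      one_mem' := ⟨one_mem _, mul_mem (one_mem _) (one_mem _)⟩
      mul_mem' := fun {a b} ha hb => ⟨mul_mem ha.1 hb.1, by
        rw [(cm a ha.1 b hb.1).symm.mul_mul_mul_comm]; exact mul_mem ha.2 hb.2⟩
      inv_mem' := fun {a} ha => ⟨inv_mem ha.1, by rw [← mul_inv_rev]; exact inv_mem ha.2⟩ }
  obtain ⟨a, ha, aV⟩ := SetLike.exists_of_lt (lt_of_le_of_ne hVA hne.symm)
  obtain ⟨i, h1, h2⟩ := ex_pow (tw_of_mem c.two (AQ ha)) aV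
  have ne : a ^ 2 ^ i * a ^ 2 ^ i ≠ 1 := fun e => h1 (om _ (pow_mem ha _) e)
  have key : W ≤ centralizer (Q : Set G) := c.trace h (fun a ha => AQ ha.1)
    (nrm fun m hm a ha => ⟨hn m hm a ha.1, by rw [conj_mul]; exact BV.cj (c.nV ▸ hm) ha.2⟩) 2
    (fun w hw => by rw [pow_two]; exact hw.2) (fun a ha b hb => (cm a ha.1 b hb.1).mul_pow 2)
    ⟨_, ⟨pow_mem ha _, h2⟩, by rwa [pow_two]⟩
    (fun w hw e => ((c.mem w).1 (om w hw.1 (by rwa [pow_two] at e))).2.1) fun w hw q hq => by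
      have m : w * q * w⁻¹ * q⁻¹ ∈ A := by
        have := mul_mem hw.1 (hn q (c.QM hq) _ (inv_mem hw.1))
        simpa only [mul_assoc] using this
      refine om _ m ?_
      rw [← sq_comm (cm _ hw.1 _ m), ← (BV.cm c hw.2 hq).eq]
      group
  exact ⟨_, ⟨AQ (pow_mem ha _), key ⟨pow_mem ha _, h2⟩⟩, ne⟩

/-- If the centre of `Q` is larger than `V`, then `Q` is abelian. -/
theorem ab (h : Th G 7) (c : CB M Q V x y) (hz : ∃ z ∈ Q ⊓ centralizer (Q : Set G), z * z ≠ 1) :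
    Q ≤ centralizer (Q : Set G) := by
  classical
  set Z := Q ⊓ centralizer (Q : Set G) with hZ
  have zc : ∀ z ∈ Z, ∀ q ∈ Q, Commute q z := fun z hz q hq => hz.2 q hq
  have om : ∀ z ∈ Z, z * z = 1 → z ∈ V := fun z hz e => (c.mem z).2 ⟨hz.1, hz.2, e⟩
  have VZ : V ≤ Z := fun v hv => ⟨BV.VQ c hv, ((c.mem v).1 hv).2.1⟩
  have MQ : ∀ m ∈ M, m ∈ normalizer (Q : Set G) := fun m hm => c.nQ ▸ hm
  have nZ : ∀ m ∈ M, ∀ z ∈ Z, m * z * m⁻¹ ∈ Z := fun m hm z hz => ⟨BV.cj (MQ m hm) hz.1,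
    fun q hq => by
      have := (zc z hz _ (BV.cj' (MQ m hm) hq)).eq
      calc q * (m * z * m⁻¹) = m * (m⁻¹ * q * m * z) * m⁻¹ := by group
        _ = _ := by rw [this]; group⟩
  -- the exponent `2 ^ (k + 2)` of `Z`
  have ex : ∃ k : ℕ, ∀ z ∈ Z, z ^ 2 ^ k = 1 := by
    have : Fact (Nat.Prime 2) := ⟨Nat.prime_two⟩
    obtain ⟨k, hk⟩ := c.two.exists_card_eq
    exact ⟨k, fun z hz => congrArg Subtype.val (hk ▸ pow_card_eq_one' (x := (⟨z, hz.1⟩ : Q)))⟩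
  obtain ⟨k, hk⟩ : ∃ k, Nat.find ex = k + 2 := by
    obtain ⟨z, hz, z2⟩ := hz
    have := Nat.find_spec ex z hz
    have h0 : Nat.find ex ≠ 0 := fun e => z2 (by rw [e] at this; simp_all)
    have h1 : Nat.find ex ≠ 1 := fun e => z2 (by rw [e] at this; simpa [pow_two] using this)
    exact ⟨Nat.find ex - 2, by omega⟩
  have e1 : ∀ z ∈ Z, z ^ 2 ^ (k + 2) = 1 := hk ▸ Nat.find_spec ex
  have e2 : ∀ z ∈ Z, z ^ 2 ^ (k + 1) ∈ V := fun z hz => om _ (pow_mem hz _) (by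
    rw [← pow_two, ← pow_mul, ← pow_succ, e1 z hz])
  obtain ⟨v, hv, v1, hy⟩ := c.fix h
  have vv := BV.sq c hv
  have yv : y * v * y⁻¹ = v := by
    have : v ∈ V ⊓ Cn y := hy ▸ mem_zpowers v
    rw [(mem_Cn.1 this.2).eq]; simp
  obtain ⟨u, uZ, yu, uv⟩ : ∃ u ∈ Z, Commute y u ∧ u ^ 2 ^ (k + 1) = v := by
    obtain ⟨z0, hz0, z1⟩ : ∃ z ∈ Z, z ^ 2 ^ (k + 1) ≠ 1 := by
      simpa using Nat.find_min ex (show k + 1 < Nat.find ex by omega)
    obtain ⟨i, hi⟩ := BV.tr h c (e2 z0 hz0) z1 hv v1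
    have hz := nZ _ (pow_mem c.xM i) z0 hz0
    rw [← conj_pow] at hi
    generalize x ^ i * z0 * (x ^ i)⁻¹ = z at hz hi
    have hz1 := nZ y c.yM z hz
    have hz2 := nZ y c.yM _ hz1
    have y3 : y * y * y = 1 := by rw [← pow_three', ← c.yo, pow_orderOf_eq_one]
    refine ⟨z * (y * z * y⁻¹) * (y * (y * z * y⁻¹) * y⁻¹), mul_mem (mul_mem hz hz1) hz2, ?_, ?_⟩
    · have k1 := (zc z hz _ (mul_mem hz1 hz2).1).eq
      calc y * (z * (y * z * y⁻¹) * (y * (y * z * y⁻¹) * y⁻¹)) =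
            y * z * y⁻¹ * (y * (y * z * y⁻¹) * y⁻¹) * ((y * y * y) * z * (y * y * y)⁻¹) * y := by group
        _ = _ := by rw [y3, one_mul, inv_one, mul_one, k1]; group
    · rw [(zc _ hz2 _ (mul_mem hz hz1).1).mul_pow, (zc _ hz1 _ hz.1).mul_pow, conj_pow, conj_pow,
        conj_pow, hi, yv, yv, vv, one_mul]
  have hC : ∀ i ≤ k + 2, ∀ a ∈ Q, Commute y a → a ^ 2 ^ i = 1 → a ∈ Z := fun i => by
    induction i with
    | zero => intro _ a _ _ e; rw [pow_zero, pow_one] at e; exact e ▸ one_mem _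
    | succ i ih =>
      intro hi a ha ya e
      have d := c.inv h v1 hy (pow_mem ha (2 ^ i)) (ya.pow_right _)
        (by rw [← pow_two, ← pow_mul, ← pow_succ, e])
      by_cases d1 : a ^ 2 ^ i = 1
      · exact ih (by omega) a ha ya d1
      have dv : a ^ 2 ^ i = v := by
        obtain ⟨n, hn⟩ := mem_zpowers_iff.1 d
        rcases Int.even_or_odd' n with ⟨j, rfl | rfl⟩
        · exact absurd (by rw [← hn, zpow_mul, zpow_two, vv, one_zpow]) d1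
        · rw [← hn, zpow_add, zpow_mul, zpow_two, vv, one_zpow, one_mul, zpow_one]
      obtain ⟨j, hj⟩ := Nat.exists_eq_add_of_le (show i ≤ k + 1 by omega)
      have uj := pow_mem uZ (2 ^ j)
      have := ih (by omega) _ (mul_mem ha uj.1) (ya.mul_right (yu.pow_right _)) (by
        rw [(zc _ uj a ha).mul_pow, dv, ← pow_mul, ← pow_add, add_comm, ← hj, uv, vv])
      exact (mul_mem_cancel_right uj).1 this
  let W : Subgroup G :=
    { carrier := {w | w ∈ Q ∧ ∀ q ∈ Q, w * q * w⁻¹ * q⁻¹ ∈ V}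
      one_mem' := ⟨one_mem _, fun q _ => by simp⟩
      mul_mem' := fun {a b} ha hb => ⟨mul_mem ha.1 hb.1, fun q hq => by
        have := mul_mem (BV.cj (c.nV ▸ c.QM ha.1) (hb.2 q hq)) (ha.2 q hq)
        convert this using 1; group⟩
      inv_mem' := fun {a} ha => ⟨inv_mem ha.1, fun q hq => by
        have := inv_mem (BV.cj' (c.nV ▸ c.QM ha.1) (ha.2 q hq))
        convert this using 1; group⟩ }
  have nW : ∀ m ∈ M, ∀ w ∈ W, m * w * m⁻¹ ∈ W := fun m hm w hw => ⟨BV.cj (MQ m hm) hw.1,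
    fun q hq => by
      have := BV.cj (c.nV ▸ hm) (hw.2 _ (BV.cj' (MQ m hm) hq))
      convert this using 1; group⟩
  have w2 : ∀ w ∈ W, w * w ∈ Z := fun w hw => ⟨mul_mem hw.1 hw.1, fun q hq => by
    have := sq_comm (BV.cm c (hw.2 q hq) hw.1)
    rw [BV.sq c (hw.2 q hq)] at this
    calc q * (w * w) = (w * w * q * (w * w)⁻¹ * q⁻¹) * q * (w * w) := by rw [this, one_mul]
      _ = _ := by group⟩
  have pw : ∀ w : G, w ^ 2 ^ (k + 2) = (w * w) ^ 2 ^ (k + 1) := fun w => by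
    rw [← pow_two, ← pow_mul, ← pow_succ']
  have hmul : ∀ a ∈ W, ∀ b ∈ W, (a * b) ^ 2 ^ (k + 2) = a ^ 2 ^ (k + 2) * b ^ 2 ^ (k + 2) :=
    fun a ha b hb => by
      have t := hb.2 a ha.1
      have e : a * b * (a * b) = b * a * b⁻¹ * a⁻¹ * (a * a * (b * b)) := by
        calc a * b * (a * b) = a * (b * a * b⁻¹ * a⁻¹) * (a * (b * b)) := by group
          _ = _ := by rw [(BV.cm c t ha.1).eq]; group
      rw [pw, pw, pw, e, (zc _ (mul_mem (w2 a ha) (w2 b hb)) _ (BV.VQ c t)).mul_pow,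
        (zc _ (w2 b hb) _ (w2 a ha).1).mul_pow, pow_succ' 2 k, pow_mul, pow_two, BV.sq c t, one_pow,
        one_mul]
  have ZW : Z ≤ W := fun z hz => ⟨hz.1, fun q hq => by rw [← (zc z hz q hq).eq]; simp⟩
  let W0 : Subgroup G :=
    { carrier := {w | w ∈ W ∧ w ^ 2 ^ (k + 2) = 1}
      one_mem' := ⟨one_mem _, one_pow _⟩
      mul_mem' := fun {a b} ha hb => ⟨mul_mem ha.1 hb.1, by rw [hmul a ha.1 b hb.1, ha.2, hb.2, one_mul]⟩
      inv_mem' := fun {a} ha => ⟨inv_mem ha.1, by rw [inv_pow, ha.2, inv_one]⟩ }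
  have nW0 : M ≤ normalizer (W0 : Set G) := nrm fun m hm w hw => ⟨nW m hm w hw.1, by
    rw [conj_pow, hw.2]; simp⟩
  have W0Z : Z = W0 := by
    refine eq_of_le_of_card_ge (fun z hz => ⟨ZW hz, e1 z hz⟩) ?_
    rw [h.cube c.xo c.yo c.yx (c.two.to_le (show W0 ≤ Q from fun w hw => hw.1.1)) (nW0 c.xM) (nW0 c.yM),
      h.cube c.xo c.yo c.yx (c.two.to_le (inf_le_left : Z ≤ Q)) (nrm nZ c.xM) (nrm nZ c.yM)]
    exact Nat.pow_le_pow_left (card_le_of_le (show W0 ⊓ Cn y ≤ Z ⊓ Cn y from fun w hw =>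
      ⟨hC _ le_rfl w hw.1.1.1 (mem_Cn.1 hw.2) hw.1.2, hw.2⟩)) 3
  have ker : ∀ w ∈ W, w ^ 2 ^ (k + 2) = 1 → w ∈ Z := fun w hw e => W0Z ▸ (⟨hw, e⟩ : w ∈ W0)
  have WZ : W ≤ Z := by
    by_cases hne : ∃ w ∈ W, w ^ 2 ^ (k + 2) ≠ 1
    · exact le_inf (fun w hw => hw.1) (c.trace h (fun w hw => hw.1) (nrm nW) _
        (fun w hw => pw w ▸ e2 _ (w2 w hw)) hmul hne (fun w hw e => (ker w hw e).2) fun w hw => hw.2)
    · exact fun w hw => ker w hw (by_contra fun e => hne ⟨w, hw, e⟩)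
  by_contra hQ
  have lt : Z < Q := lt_of_le_of_ne inf_le_left fun e => hQ (e.ge.trans inf_le_right)
  obtain ⟨w, hw, wZ, hd⟩ := exists_fix c.two c.two lt le_normalizer (c.QM.trans (nrm nZ))
    (c.QM.trans (nrm nZ))
  obtain ⟨i, h1, h2⟩ := ex_pow (tw_of_mem c.two hw) wZ
  have hd' : ∀ n : ℕ, ∀ q ∈ Q, w ^ n * q * (w ^ n)⁻¹ * q⁻¹ ∈ Z := fun n q hq => by
    induction n with
    | zero => simp
    | succ n ih =>
      have := mul_mem (nZ w (c.QM hw) _ ih) (inv_mem (hd q hq))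
      convert this using 1; rw [pow_succ']; group
  refine h1 (WZ ⟨pow_mem hw _, fun q hq => om _ (hd' _ q hq) ?_⟩)
  rw [← sq_comm (zc _ (hd' _ q hq) _ (pow_mem hw _)), ← (zc _ h2 q hq).eq]
  group

end B3a

set_option linter.unusedVariables false in
theorem CB.omega_of_ab (h : Th G 7) (c : CB M Q V x y) {A : Subgroup G} (hVA : V ≤ A) (hne : A ≠ V)
    (hAM : A ≤ M) (hc : IsMulCommutative A) (hn : ∀ m ∈ M, ∀ a ∈ A, m * a * m⁻¹ ∈ A) :
    ∀ a ∈ Q, a * a = 1 → a ∈ V := fun a ha e =>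
  (c.mem a).2 ⟨ha, B3a.ab h c (B3a.big h c hVA hne hc hn) ha, e⟩

end Cfsg.Agent.K3P
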