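import Mathlib
import Cfsg.Agent.K3P.B1
import Cfsg.Agent.K3P.B2
import Cfsg.Agent.K3P.ToB
import Cfsg.Agent.K3P.Bas
import Cfsg.Agent.S1786
import Cfsg.Agent.Loc.MssBase
import Cfsg.Agent.GT.FStar
import Cfsg.Agent.GT.PConstrained
import Cfsg.Agent.GT.PGroupFrattini
import Cfsg.Agent.GT.PiGroups

/-! The case `L₃(2)`: no other conjugate of `V` lies in `Q`. -/

set_option autoImplicit false
open Cfsg Subgroup

namespace Cfsg.Agent.K3P

open Cfsg.Agent.Loc.Mss Cfsg.Agent.GT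
open scoped commutatorElement

variable {G : Type*} [Group G] [Finite G] {M Q V : Subgroup G} {x y : G}

namespace B3b

omit [Finite G] in
theorem zp2 {v a : G} (vv : v * v = 1) (ha : a ∈ zpowers v) : a = 1 ∨ a = v := by
  obtain ⟨n, rfl⟩ := ha
  have z2 : v ^ (2 : ℤ) = 1 := by rw [zpow_two, vv]
  obtain ⟨k, rfl | rfl⟩ := Int.even_or_odd' n
  · exact Or.inl (by show v ^ (2 * k) = 1; rw [zpow_mul, z2, one_zpow])
  · exact Or.inr (by
      show v ^ (2 * k + 1) = v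
      rw [zpow_add, zpow_mul, z2, one_zpow, one_mul, zpow_one])

theorem card_le_two_mul {C H : Subgroup G}
    (h : ∀ b ∈ C, ∀ b' ∈ C, b ∉ H → b' ∉ H → b⁻¹ * b' ∈ H) : Nat.card C ≤ 2 * Nat.card H := by
  classical
  by_cases h0 : C ≤ H
  · have := card_le_of_le h0
    omega
  obtain ⟨b, hb, hb'⟩ := SetLike.not_le_iff_exists.1 h0
  have h1 : (C : Set G) ⊆ (H : Set G) ∪ (fun u => b * u) '' (H : Set G) := by
    intro a ha
    by_cases h2 : a ∈ H
    · exact Or.inl h2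
    · exact Or.inr ⟨b⁻¹ * a, h b hb a ha hb' h2, by simp⟩
  have h2 := (Set.ncard_le_ncard h1).trans (Set.ncard_union_le _ _)
  rw [Set.ncard_image_of_injective _ (mul_right_injective b)] at h2
  have e1 : Nat.card C = (C : Set G).ncard := Nat.card_coe_set_eq _
  have e2 : Nat.card H = (H : Set G).ncard := Nat.card_coe_set_eq _
  omega

/-- A group with a unique involution containing all squares and commutators has order at most
eight. -/
theorem card_le_eight {C : Subgroup G} {v : G} (vv : v * v = 1)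
    (h1 : ∀ a ∈ C, a * a = 1 → a ∈ zpowers v) (h2 : ∀ a ∈ C, a * a ∈ zpowers v)
    (h3 : ∀ a ∈ C, ∀ b ∈ C, a * b * a⁻¹ * b⁻¹ ∈ zpowers v) : Nat.card C ≤ 8 := by
  have le4 : ∀ a : G, a ^ 4 = 1 → Nat.card (zpowers a) ≤ 4 := fun a ha => by
    rw [Nat.card_zpowers]
    exact orderOf_le_of_pow_eq_one (by norm_num) ha
  by_cases h0 : ∀ a ∈ C, a * a = 1
  · have := (card_le_of_le (fun a ha => h1 a ha (h0 a ha) : C ≤ zpowers v)).trans (le4 v (by
      rw [show v ^ 4 = v * v * (v * v) by simp [pow_succ, mul_assoc], vv, one_mul]))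
    omega
  push Not at h0
  obtain ⟨a, ha, a1⟩ := h0
  have av : a * a = v := (zp2 vv (h2 a ha)).resolve_left a1
  have va : zpowers v ≤ zpowers a := zpowers_le.2 (av ▸ mul_mem (mem_zpowers a) (mem_zpowers a))
  have key : ∀ b ∈ C, Commute a b → b ∈ zpowers a := by
    intro b hb hc
    rcases zp2 vv (h2 b hb) with h | h
    · exact va (h1 b hb h)
    · have : a * b * (a * b) = 1 := by
        calc a * b * (a * b) = a * (b * a) * b := by group
          _ = a * a * (b * b) := by rw [← hc.eq]; group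
          _ = 1 := by rw [av, h, vv]
      have := mul_mem (inv_mem (mem_zpowers a)) (va (h1 _ (mul_mem ha hb) this))
      rwa [inv_mul_cancel_left] at this
  have := card_le_two_mul (C := C) (H := zpowers a) fun b hb b' hb' n n' => by
    refine key _ (mul_mem (inv_mem hb) hb') ?_
    have f : ∀ b ∈ C, b ∉ zpowers a → a * b * a⁻¹ = v * b := fun b hb n => by
      rcases zp2 vv (h3 a ha b hb) with h | h
      · exact absurd (key b hb (commutatorElement_eq_one_iff_commute.1 h)) n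
      · exact mul_inv_eq_iff_eq_mul.1 h
    show a * (b⁻¹ * b') = b⁻¹ * b' * a
    calc a * (b⁻¹ * b') = (a * b * a⁻¹)⁻¹ * (a * b' * a⁻¹) * a := by group
      _ = b⁻¹ * b' * a := by rw [f b hb n, f b' hb' n']; group
  have := le4 a (by rw [show a ^ 4 = a * a * (a * a) by simp [pow_succ, mul_assoc], av, vv])
  omega

theorem sq_comm (h : Th G 7) (c : CB M Q V x y) (hne : Q ≠ V)
    (hmax : ∀ A : Subgroup G, V ≤ A → A ≤ M → IsMulCommutative A →
      (∀ m ∈ M, ∀ a ∈ A, m * a * m⁻¹ ∈ A) → A = V)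
    {g : G} (hg : V ^ᶜ g ≠ V) (hQ : V ^ᶜ g ≤ Q) :
    (∀ a ∈ Q, a * a ∈ V) ∧ ∀ a ∈ Q, ∀ b ∈ Q, a * b * a⁻¹ * b⁻¹ ∈ V := by
  haveI : Fact (Nat.Prime 2) := ⟨Nat.prime_two⟩
  have hc : pCoreOf 2 (normalizer (V : Set G)) = Q := by rw [c.nV, c.core]
  have h1 : generalizedFittingSubgroup (normalizer (V : Set G)) = pCore 2 _ :=
    (genFitting_eq_pCore_iff Nat.prime_two).2 (charP_iff_pCoreOf.2 (by
      rw [hc]; exact inf_le_right.trans c.cen))
  have := S1786.result V c.el (by rw [h1]) (by rw [c.nV]; exact hmax) (c.ti h hne) g hg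
    (hQ.trans hc.ge)
  obtain ⟨-, -, -, -, -, h2, -, h3⟩ := this
  change (frattini (pCoreOf 2 (normalizer (V : Set G)))).map (pCoreOf 2 _).subtype = V at h2
  change (commutator (pCoreOf 2 (normalizer (V : Set G)))).map (pCoreOf 2 _).subtype = V at h3
  rw [hc] at h2 h3
  refine ⟨fun a ha => ?_, fun a ha b hb => ?_⟩
  · rw [← h2]
    exact ⟨⟨a, ha⟩ ^ 2, PG.pow_mem_frattini c.two _, by simp [pow_two]⟩
  · rw [← h3]
    exact ⟨⁅(⟨a, ha⟩ : Q), ⟨b, hb⟩⁆, commutator_mem_commutator (mem_top _) (mem_top _), rfl⟩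

end B3b

open B3b in
theorem CB.not_le (h : Th G 7) (c : CB M Q V x y) (hne : Q ≠ V)
    (hmax : ∀ A : Subgroup G, V ≤ A → A ≤ M → IsMulCommutative A →
      (∀ m ∈ M, ∀ a ∈ A, m * a * m⁻¹ ∈ A) → A = V)
    {g : G} (hg : V ^ᶜ g ≠ V) (hQ : V ^ᶜ g ≤ Q) : False := by
  obtain ⟨sq, cm⟩ := sq_comm h c hne hmax hg hQ
  obtain ⟨v, hv, v1, hvy⟩ := c.fix h
  have vv := el_sq c.el hv
  have nQ : ∀ m ∈ M, m ∈ normalizer (Q : Set G) := fun m hm => c.nQ ▸ hm
  have nV : ∀ m ∈ M, m ∈ normalizer (V : Set G) := fun m hm => c.nV ▸ hm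
  have cVQ : ∀ w ∈ V, ∀ q ∈ Q, w * q = q * w := fun w hw q hq =>
    (((c.mem w).1 hw).2.1 q hq).symm
  -- the order of `Q`
  have c8 : Nat.card (Q ⊓ Cn y : Subgroup G) ≤ 8 := card_le_eight vv
    (fun a ha h2 => c.inv h v1 hvy ha.1 (mem_Cn.1 ha.2) h2)
    (fun a ha => hvy ▸ ⟨sq a ha.1, mul_mem ha.2 ha.2⟩)
    (fun a ha b hb => hvy ▸ ⟨cm a ha.1 b hb.1,
      (Cn y).mul_mem ((Cn y).mul_mem ((Cn y).mul_mem ha.2 hb.2) ((Cn y).inv_mem ha.2))
        ((Cn y).inv_mem hb.2)⟩)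
  have cQ : Nat.card Q ≤ 512 := by
    rw [h.cube c.xo c.yo c.yx c.two (nQ x c.xM) (nQ y c.yM)]
    exact Nat.pow_le_pow_left c8 3
  set V' := V ^ᶜ g with hV'
  have ti : V' ⊓ V = ⊥ := (c.ti h hne g).resolve_left hg
  have one : ∀ a ∈ V', a ∈ V → a = 1 := fun a h1 h2 => mem_bot.1 (ti.le ⟨h1, h2⟩)
  have nrm : ∀ {A : Subgroup G}, V ≤ A → A ≤ Q → Q ≤ normalizer (A : Set G) := by
    intro A h1 h2
    refine norm_of_forall_cj_le fun q hq => cj_le_iff.2 fun a ha => ?_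
    have := mul_mem (h1 (cm q hq a (h2 ha))) ha
    rwa [inv_mul_cancel_right] at this
  set W := V ⊔ V' with hW
  have WQ : W ≤ Q := sup_le c.VQ hQ
  have mW : ∀ a ∈ W, ∃ w ∈ V, ∃ b ∈ V', w * b = a := fun a ha =>
    (mem_sup_norm (hQ.trans (nrm le_rfl c.VQ))).1 ha
  have cW : Nat.card W = 64 := by
    have := card_sup_mul_card_inf_of_le_normalizer (hQ.trans (nrm le_rfl c.VQ))
    rw [ti, card_bot, mul_one, sup_comm, card_map_conj, c.cardV] at this
    exact this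
  set E := Q ⊓ centralizer (V' : Set G) with hE
  have eE : ∀ a ∈ E, a * a = 1 := fun a ha => by
    refine one _ ?_ (sq a ha.1)
    have h1 : g⁻¹ * a * g ∈ Q := by
      rw [← c.cV]
      intro w hw
      have := ha.2 _ (conj_mem_map_conj.2 hw : g * w * g⁻¹ ∈ V')
      calc w * (g⁻¹ * a * g) = g⁻¹ * (g * w * g⁻¹ * a) * g := by group
        _ = g⁻¹ * a * g * w := by rw [this]; group
    have := sq _ h1
    rwa [mem_map_conj, show g⁻¹ * (a * a) * g = g⁻¹ * a * g * (g⁻¹ * a * g) by group]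
  have elE := el_of_sq eE
  have VE : V ≤ E := fun w hw => ⟨c.VQ hw, fun b hb => (cVQ w hw b (hQ hb)).symm⟩
  have WE : W ≤ E := sup_le VE fun b hb => ⟨hQ hb, fun b' hb' => el_comm (el_conj c.el g) hb' hb⟩
  have L : ∀ a ∈ W, a ∉ V → ∀ q ∈ Q, Commute a q → q ∈ E := by
    intro a ha a1 q hq hc
    obtain ⟨w, hw, b, hb, rfl⟩ := mW a ha
    have b1 : b ≠ 1 := fun e => a1 (by rw [e, mul_one]; exact hw)
    have cb : Commute b q := by
      have := (Commute.inv_left (cVQ w hw q hq)).mul_left hc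
      rwa [inv_mul_cancel_left] at this
    have hn := c.cn_le' h hne hb b1 (mem_Cn.2 cb)
    refine ⟨hq, fun b' hb' => (commutatorElement_eq_one_iff_mul_comm.1 (one _ ?_ ?_)).symm⟩
    · exact mul_mem (conj_mem_of_norm hn hb') (inv_mem hb')
    · exact cm q hq b' (hQ hb')
  have cjQ : ∀ {A : Subgroup G}, A ≤ Q → ∀ m ∈ M, A ^ᶜ m ≤ Q := fun hA m hm =>
    map_conj_le_of_mem_normalizer hA (nQ m hm)
  have cjV : ∀ {A : Subgroup G}, V ≤ A → ∀ m ∈ M, V ≤ A ^ᶜ m := fun hA m hm w hw =>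
    mem_map_conj.2 (hA (conj_mem_of_norm' (nV m hm) hw))
  have meet : ∀ m ∈ M, ¬ E ^ᶜ m ≤ E → W ⊓ E ^ᶜ m = V := by
    intro m hm hn
    refine le_antisymm (fun a ha => ?_) (le_inf le_sup_left (cjV VE m hm))
    by_contra a1
    exact hn fun q hq => L a ha.1 a1 q (cjQ inf_le_left m hm hq) (el_comm (el_conj elE m) ha.2 hq)
  have prod : ∀ m ∈ M, ¬ E ^ᶜ m ≤ E → Nat.card ↥(W ⊔ E ^ᶜ m) = 8 * Nat.card E := by
    intro m hm hn
    have := card_sup_mul_card_inf_of_le_normalizer (H := E ^ᶜ m) (N := W)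
      ((cjQ inf_le_left m hm).trans (nrm le_sup_left WQ))
    rw [inf_comm (E ^ᶜ m), meet m hm hn, sup_comm (E ^ᶜ m), card_map_conj, c.cardV, cW] at this
    omega
  obtain ⟨m, hm, hn⟩ : ∃ m ∈ M, ¬ E ^ᶜ m ≤ E := by
    by_contra hcon
    push Not at hcon
    have := hmax E VE (inf_le_left.trans c.QM) elE.1
      fun m hm a ha => hcon m hm (conj_mem_map_conj.2 ha)
    exact hg (eq_of_le_of_card_ge (le_sup_right.trans (WE.trans this.le)) (by
      rw [card_map_conj]))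
  have c1 := card_le_of_le (sup_le WQ (cjQ inf_le_left m hm) : W ⊔ E ^ᶜ m ≤ Q)
  rw [prod m hm hn] at c1
  have EW : W = E := eq_of_le_of_card_ge WE (by omega)
  have cE : Nat.card E = 64 := EW ▸ cW
  have ny : y ∉ normalizer (E : Set G) := fun hy => by
    have h1 := card_mod_cn Nat.prime_three c.yo hy
    have h2 := h.card_cn_le elE c.yo
    have h3 : v ∈ E ⊓ Cn y := ⟨VE hv, (hvy.ge (mem_zpowers v)).2⟩
    have h4 : Nat.card (E ⊓ Cn y : Subgroup G) = 1 := by omega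
    rw [card_eq_one] at h4
    exact v1 (mem_bot.1 (h4 ▸ h3))
  have n1 : ¬ E ^ᶜ y ≤ E := fun e => ny (mem_normalizer_of_map_conj_le e)
  have n2 : ¬ E ^ᶜ y⁻¹ ≤ E := fun e => ny (inv_mem_iff.1 (mem_normalizer_of_map_conj_le e))
  have m1 := meet y c.yM n1
  have m2 := meet _ (inv_mem c.yM) n2
  have top : W ⊔ E ^ᶜ y = Q := eq_of_le_of_card_ge (sup_le WQ (cjQ inf_le_left y c.yM)) (by
    rw [prod y c.yM n1]; omega)
  obtain ⟨a, ha, a1⟩ : ∃ a ∈ E ^ᶜ y⁻¹, a ∉ V := by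
    by_contra hcon
    push Not at hcon
    have := card_le_of_le (hcon : E ^ᶜ y⁻¹ ≤ V)
    rw [card_map_conj, c.cardV] at this
    omega
  obtain ⟨a₁, h1, a₂, h2, rfl⟩ := (mem_sup_norm ((cjQ inf_le_left y c.yM : E ^ᶜ y ≤ Q).trans
    (nrm le_sup_left WQ))).1 (top.ge (cjQ inf_le_left _ (inv_mem c.yM) ha))
  have y3 : y * y = y⁻¹ := by
    rw [eq_inv_iff_mul_eq_one, ← pow_three', ← c.yo, pow_orderOf_eq_one]
  have k1 : a₁ ∉ V := fun k => by
    have h3 : a₁ * a₂ ∈ E ^ᶜ y := mul_mem (cjV VE y c.yM k) h2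
    have h4 : y * (a₁ * a₂) * y⁻¹ ∈ W ⊓ E ^ᶜ y⁻¹ := by
      refine ⟨EW ▸ mem_map_conj_inv.1 ha, mem_map_conj_inv.2 ?_⟩
      have := mem_map_conj.1 h3
      rwa [show y * (y * (a₁ * a₂) * y⁻¹) * y⁻¹ = y * y * (a₁ * a₂) * (y * y)⁻¹ by group, y3, inv_inv]
    have := conj_mem_of_norm' (nV y c.yM) (m2.le h4)
    exact a1 (by rwa [show y⁻¹ * (y * (a₁ * a₂) * y⁻¹) * y = a₁ * a₂ by group] at this)
  have k2 : a₂ ∉ V := fun k => a1 (m2.le ⟨mul_mem h1 (mem_sup_left k), ha⟩)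
  refine k2 (m1.le ⟨EW ▸ L a₁ h1 k1 a₂ (cjQ inf_le_left y c.yM h2) ?_, h2⟩)
  have s1 := eE a₁ (WE h1)
  have s2 := el_sq (el_conj elE y) h2
  have s3 := el_sq (el_conj elE y⁻¹) ha
  show a₁ * a₂ = a₂ * a₁
  calc a₁ * a₂ = (a₁ * a₂)⁻¹ := eq_inv_of_mul_eq_one_left s3
    _ = a₂ * a₁ := by rw [mul_inv_rev, inv_eq_of_mul_eq_one_left s1, inv_eq_of_mul_eq_one_left s2]

end Cfsg.Agent.K3P
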