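import Mathlib
import Cfsg.Agent.K3P.Defs
import Cfsg.Agent.K3P.Bas
import Cfsg.Agent.K3P.Cen
import Cfsg.Agent.K3P.B1
import Cfsg.Agent.FG.ClassCount
import Cfsg.Agent.Spor.ESBasic
import Cfsg.Agent.GT.FStar

/-! The case `Q = V`: the 2-core of the stabiliser of `v` in `M` is extraspecial of order 32. -/

set_option autoImplicit false
set_option linter.unusedSectionVars false
open Cfsg Subgroup

namespace Cfsg.Agent.K3P

variable {G : Type*} [Group G] [Finite G] {M V : Subgroup G} {x y v : G}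

/-- The elements of `D` whose commutators with `S` lie in `T`. -/
def cs (D T : Subgroup G) (hT : D ≤ normalizer (T : Set G)) (S : Set G) : Subgroup G where
  carrier := {d | d ∈ D ∧ ∀ g ∈ S, g * d * g⁻¹ * d⁻¹ ∈ T}
  one_mem' := ⟨one_mem _, fun g _ => by simp⟩
  mul_mem' := fun {a b} ha hb => ⟨mul_mem ha.1 hb.1, fun g hg => by
    rw [show g * (a * b) * g⁻¹ * (a * b)⁻¹ =
      (g * a * g⁻¹ * a⁻¹) * (a * (g * b * g⁻¹ * b⁻¹) * a⁻¹) by group]
    exact mul_mem (ha.2 g hg) (GT.conj_mem_of_mem_normalizer (hT ha.1) (hb.2 g hg))⟩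
  inv_mem' := fun {a} ha => ⟨inv_mem ha.1, fun g hg => by
    rw [show g * a⁻¹ * g⁻¹ * a⁻¹⁻¹ = a⁻¹ * (g * a * g⁻¹ * a⁻¹)⁻¹ * a by group]
    exact GT.conj_mem_of_mem_normalizer' (hT ha.1) (inv_mem (ha.2 g hg))⟩

theorem mem_cs {D T : Subgroup G} {hT : D ≤ normalizer (T : Set G)} {S : Set G} {d : G} :
    d ∈ cs D T hT S ↔ d ∈ D ∧ ∀ g ∈ S, g * d * g⁻¹ * d⁻¹ ∈ T := Iff.rfl

theorem cs_le {D T : Subgroup G} {hT : D ≤ normalizer (T : Set G)} {S : Set G} :
    cs D T hT S ≤ D := fun _ h => h.1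

theorem comm_symm {T : Subgroup G} {a b : G} (h : a * b * a⁻¹ * b⁻¹ ∈ T) :
    b * a * b⁻¹ * a⁻¹ ∈ T := by
  have := inv_mem h
  rwa [show (a * b * a⁻¹ * b⁻¹)⁻¹ = b * a * b⁻¹ * a⁻¹ by group] at this

theorem cn_le_norm (t : G) : Cn t ≤ normalizer (zpowers t : Set G) := fun g hg =>
  GT.map_conj_eq_self_iff.1 (by
    rw [GT.map_conj_zpowers, ← (mem_Cn.1 hg).eq, mul_inv_cancel_right])

theorem norm_cn {t g : G} (hg : g ∈ Cn t) : g ∈ normalizer (Cn t : Set G) := le_normalizer hg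

theorem mem_norm_inf {A B : Subgroup G} {g : G} (hA : g ∈ normalizer (A : Set G))
    (hB : g ∈ normalizer (B : Set G)) : g ∈ normalizer ((A ⊓ B : Subgroup G) : Set G) :=
  GT.mem_normalizer_iff_of_finite.2 fun _ hx =>
    ⟨GT.conj_mem_of_mem_normalizer hA hx.1, GT.conj_mem_of_mem_normalizer hB hx.2⟩

theorem zp_comm {t e d : G} (he : e ∈ zpowers t) (hd : d ∈ Cn t) : Commute e d := by
  obtain ⟨k, rfl⟩ := he
  exact (mem_Cn.1 hd).zpow_left k

theorem zp_sq {t e : G} (ht : t * t = 1) (he : e ∈ zpowers t) : e * e = 1 := by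
  rcases (Spor.mem_zpowers_iff_of_sq ht).1 he with rfl | rfl
  exacts [one_mul 1, ht]

theorem card_dvd_pow {X Y : Subgroup G} (h : X ≤ Y) {n : ℕ} (hY : Nat.card Y = 2 ^ n) :
    ∃ k ≤ n, Nat.card X = 2 ^ k :=
  (Nat.dvd_prime_pow Nat.prime_two).1 (hY ▸ card_dvd_of_le h)

theorem CB.card_cm (h : Th G 7) (c : CB M V V x y) (h1 : v ≠ 1) (hv : v ∈ V) :
    Nat.card (M ⊓ Cn v : Subgroup G) = 192 := by
  have e : {w | ∃ m ∈ M, m * v * m⁻¹ = w} = (V : Set G) \ {1} := by
    ext w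
    constructor
    · rintro ⟨m, hm, rfl⟩
      refine ⟨GT.conj_mem_of_mem_normalizer (c.nV ▸ hm) hv, fun e => h1 ?_⟩
      simpa [mul_inv_eq_one] using e
    · rintro ⟨hw, w1⟩
      obtain ⟨m, hm, e⟩ := c.trans h hv h1 hw w1
      exact ⟨m, zpowers_le.2 c.xM hm, e⟩
  have k := FG.ncard_conj_orbit_subgroup M v
  rw [e, Set.ncard_sdiff_singleton_of_mem (one_mem V)] at k
  have k8 : (V : Set G).ncard = 8 := c.cardV
  have k2 := GT.PG.relIndex_mul_card_inf (Cn v) M
  rw [← k, k8, c.cardM, c.cardV, inf_comm] at k2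
  omega

theorem CB.exists_X (h : Th G 7) (c : CB M V V x y) (h1 : v ≠ 1) (hv : v ∈ V) :
    ∃ X ≤ M ⊓ Cn v, Nat.card X = 64 := by
  have : Fact (Nat.Prime 2) := ⟨Nat.prime_two⟩
  obtain ⟨K, hK⟩ := Sylow.exists_subgroup_card_pow_prime (G := (M ⊓ Cn v : Subgroup G)) 2 (n := 6)
    (by rw [c.card_cm h h1 hv]; norm_num)
  exact ⟨K.map (M ⊓ Cn v).subtype, map_subtype_le K, by
    rw [card_map_of_injective (subtype_injective _), hK]; norm_num⟩

theorem CB.es (h : Th G 7) (c : CB M V V x y) (h1 : v ≠ 1) (hv : V ⊓ Cn y = zpowers v) :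
    Es V (DD v ⊓ M) v y := by
  have : Fact (Nat.Prime 2) := ⟨Nat.prime_two⟩
  set D := DD v ⊓ M with hD
  have hv' : v ∈ V ⊓ Cn y := hv ▸ mem_zpowers v
  have vo := c.ord hv'.1 h1
  have v2 := el_sq c.el hv'.1
  have yv : y ∈ Cn v := mem_Cn.2 (mem_Cn.1 hv'.2).symm
  have VD : V ≤ D := le_inf (c.Q_le h hv'.1 h1) c.QM
  have Dv : D ≤ Cn v := inf_le_left.trans (DD_le v)
  have yD : y ∈ normalizer (D : Set G) := mem_norm_inf (nDD v yv) (le_normalizer c.yM)
  have yV : y ∈ normalizer (V : Set G) := c.nV ▸ c.yM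
  have DV : D ≤ normalizer (V : Set G) := c.nV ▸ inf_le_right
  have zV : zpowers v ≤ V := zpowers_le.2 hv'.1
  have z2 : Nat.card (zpowers v) = 2 := by rw [Nat.card_zpowers, vo]
  have act : ∀ w ∈ V, ∀ d ∈ D, ∃ e ∈ zpowers v, d * w * d⁻¹ = e * w := fun w hw d hd =>
    ⟨_, c.comm h hv'.1 h1 w hw d hd, by group⟩
  have two : ∀ w ∈ V, ∀ a ∈ D, ∀ b ∈ D, a * b * w * (a * b)⁻¹ = b * a * w * (b * a)⁻¹ := by
    intro w hw a ha b hb
    obtain ⟨e, he, ee⟩ := act w hw a ha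
    obtain ⟨f, hf, ff⟩ := act w hw b hb
    rw [show a * b * w * (a * b)⁻¹ = a * (b * w * b⁻¹) * a⁻¹ by group,
      show b * a * w * (b * a)⁻¹ = b * (a * w * a⁻¹) * b⁻¹ by group, ee, ff, ← mul_assoc a,
      ← (zp_comm hf (Dv ha)).eq, ← mul_assoc b, ← (zp_comm he (Dv hb)).eq,
      show f * a * w * a⁻¹ = f * (a * w * a⁻¹) by group,
      show e * b * w * b⁻¹ = e * (b * w * b⁻¹) by group, ee, ff, ← mul_assoc, ← mul_assoc,
      (zp_comm hf (Dv (VD (zV he)))).eq]
  have sqV : ∀ a ∈ D, a * a ∈ V := fun a ha => c.cV ▸ fun w hw => by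
    obtain ⟨e, he, ee⟩ := act w hw a ha
    have : a * a * w * (a * a)⁻¹ = w := by
      rw [show a * a * w * (a * a)⁻¹ = a * (a * w * a⁻¹) * a⁻¹ by group, ee, ← mul_assoc a,
        ← (zp_comm he (Dv ha)).eq, show e * a * w * a⁻¹ = e * (a * w * a⁻¹) by group, ee,
        ← mul_assoc, zp_sq v2 he, one_mul]
    exact (mul_inv_eq_iff_eq_mul.1 this).symm
  have cmV : ∀ a ∈ D, ∀ b ∈ D, a * b * a⁻¹ * b⁻¹ ∈ V := fun a ha b hb => c.cV ▸ fun w hw => by
    have hw' : (b * a)⁻¹ * w * (b * a) ∈ V :=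
      GT.conj_mem_of_mem_normalizer' (DV (mul_mem hb ha)) hw
    have := two _ hw' a ha b hb
    rw [show b * a * ((b * a)⁻¹ * w * (b * a)) * (b * a)⁻¹ = w by group] at this
    rw [show a * b * a⁻¹ * b⁻¹ * w =
      a * b * ((b * a)⁻¹ * w * (b * a)) * (a * b)⁻¹ * (a * b * a⁻¹ * b⁻¹) by group, this]
  have cy : D ⊓ Cn y = zpowers v := by
    refine le_antisymm (fun a ha => ?_) (le_inf (zV.trans VD) (zpowers_le.2 hv'.2))
    have k := sq_le c.el (DV ha.1) (c.cV.symm ▸ sqV a ha.1)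
    have l : zpowers v ≤ V ⊓ Cn a :=
      zpowers_le.2 ⟨hv'.1, mem_Cn.2 (mem_Cn.1 (Dv ha.1)).symm⟩
    have e := c.yirr h1 hv inf_le_left (lt_of_le_of_ne l fun e => by
      rw [← e, z2, c.cardV] at k; omega)
      (mem_norm_inf yV (norm_cn (mem_Cn.2 (mem_Cn.1 ha.2).symm)))
    rw [← hv]
    exact ⟨c.cV ▸ fun w hw => (mem_Cn.1 (e.ge hw).2).symm.eq, ha.2⟩
  have card : Nat.card D = 32 := by
    obtain ⟨X, hX, X64⟩ := c.exists_X h h1 hv'.1
    have k := h.idx vo (IsPGroup.of_card (n := 6) X64) (hX.trans inf_le_right)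
    have k2 : Nat.card (X ⊓ DD v : Subgroup G) ≤ Nat.card D :=
      card_le_of_le (le_inf inf_le_right (inf_le_left.trans (hX.trans inf_le_left)))
    obtain ⟨n, hn⟩ := ((two_DD v).to_inf_left (K := M)).exists_card_eq
    have k3 : Nat.card D ∣ 192 := c.card_cm h h1 hv'.1 ▸ card_dvd_of_le (le_inf inf_le_right Dv)
    have k4 := card_mod_cn Nat.prime_three c.yo yD
    rw [cy, z2] at k4
    change Nat.card D = _ at hn
    rw [hn] at k2 k3 k4 ⊢
    have n7 : n < 8 := by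
      have := Nat.le_of_dvd (by norm_num) k3
      by_contra k5
      have := Nat.pow_le_pow_right two_pos (not_lt.1 k5)
      omega
    interval_cases n <;> omega
  have ctr : ∀ a ∈ D, (∀ b ∈ D, Commute a b) → a ∈ zpowers v := fun a ha k => by
    by_contra k1
    have aV : a ∈ V := c.cV ▸ fun w hw => (k w (VD hw)).symm.eq
    have l : zpowers v ≤ V ⊓ centralizer (D : Set G) :=
      zpowers_le.2 ⟨hv'.1, fun d hd => (mem_Cn.1 (Dv hd)).symm.eq⟩
    have e := c.yirr h1 hv inf_le_left (lt_of_le_of_ne l fun e => k1 (e ▸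
      ⟨aV, fun d hd => (k d hd).symm.eq⟩))
      (mem_norm_inf yV (GT.Tr.normalizer_le_normalizer_centralizer D yD))
    have : D ≤ V := fun d hd => c.cV ▸ fun w hw => ((e.ge hw).2 d hd).symm
    have := card_le_of_le this
    rw [card, c.cardV] at this
    omega
  have Dz : D ≤ normalizer (zpowers v : Set G) := Dv.trans (cn_le_norm v)
  have comm : ∀ a ∈ D, ∀ b ∈ D, a * b * a⁻¹ * b⁻¹ ∈ zpowers v := fun a ha b hb => by
    by_contra k
    set T := zpowers v ⊔ zpowers (a * b * a⁻¹ * b⁻¹) with hT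
    have TV : T ≤ V := sup_le zV (zpowers_le.2 (cmV a ha b hb))
    have T4 : Nat.card T = 4 := by
      rw [hT, GT.PG.card_sup_zpowers Nat.prime_two (Dz (VD (cmV a ha b hb))) k
        (by rw [sq, el_sq c.el (cmV a ha b hb)]; exact one_mem _), z2]
    have DT : D ≤ normalizer (T : Set G) := fun d hd => GT.mem_normalizer_iff_of_finite.2 fun t ht => by
      obtain ⟨e, he, ee⟩ := act t (TV ht) d hd
      exact ee ▸ mul_mem (mem_sup_left he) ht
    have gen : ∀ X ≤ D, V ≤ X → a ∈ X → b ∈ X → D ≤ X := fun X XD VX aX bX => by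
      have l1 : V < X ⊓ cs D _ Dz {a} := lt_of_le_of_ne
        (le_inf VX fun w hw => ⟨VD hw, fun g hg => hg ▸ c.comm h hv'.1 h1 w hw a ha⟩) fun e => by
          have : a ∈ V := e ▸ ⟨aX, ha, fun g hg => by rw [hg]; simp⟩
          exact k (comm_symm (c.comm h hv'.1 h1 a this b hb))
      have l2 : X ⊓ cs D _ Dz {a} < X := lt_of_le_of_ne inf_le_left fun e =>
        k ((e.ge bX).2.2 a rfl)
      have l3 := GT.PG.card_lt_of_lt l1
      have l4 := GT.PG.card_lt_of_lt l2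
      obtain ⟨i, hi, ei⟩ := card_dvd_pow (n := 5) XD card
      obtain ⟨j, hj, ej⟩ := card_dvd_pow (n := 5) (l2.le.trans XD) card
      refine (GT.PG.eq_of_le_of_card_le XD ?_).ge
      rw [c.cardV, ej] at l3
      rw [ei, ej] at l4
      rw [ei, card]
      interval_cases i <;> interval_cases j <;> omega
    have VL : ∀ g ∈ D, V ≤ cs D T DT {g} := fun g hg w hw =>
      ⟨VD hw, fun g' hg' => hg' ▸ mem_sup_left (c.comm h hv'.1 h1 w hw g hg)⟩
    have cT : a * b * a⁻¹ * b⁻¹ ∈ T := mem_sup_right (mem_zpowers _)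
    have La := gen _ cs_le (VL a ha) ⟨ha, fun g hg => by rw [hg]; simp⟩ ⟨hb, fun g hg => hg ▸ cT⟩
    have Lb := gen _ cs_le (VL b hb) ⟨ha, fun g hg => hg ▸ comm_symm cT⟩
      ⟨hb, fun g hg => by rw [hg]; simp⟩
    have Lg : ∀ g ∈ D, ∀ d ∈ D, g * d * g⁻¹ * d⁻¹ ∈ T := fun g hg d hd =>
      (gen _ cs_le (VL g hg) ⟨ha, fun g' hg' => hg' ▸ comm_symm ((La hg).2 a rfl)⟩
        ⟨hb, fun g' hg' => hg' ▸ comm_symm ((Lb hg).2 b rfl)⟩ hd).2 g rfl
    have yT : y ∈ normalizer (T : Set G) := GT.mem_normalizer_of_map_conj_le (by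
      rw [hT, GT.map_conj_sup, GT.map_conj_zpowers, GT.map_conj_zpowers, ← (mem_Cn.1 yv).eq,
        mul_inv_cancel_right]
      refine sup_le le_sup_left (zpowers_le.2 ?_)
      have := Lg _ (GT.conj_mem_of_mem_normalizer yD ha) _ (GT.conj_mem_of_mem_normalizer yD hb)
      rwa [show y * a * y⁻¹ * (y * b * y⁻¹) * (y * a * y⁻¹)⁻¹ * (y * b * y⁻¹)⁻¹ =
        y * (a * b * a⁻¹ * b⁻¹) * y⁻¹ by group] at this)
    have e := c.yirr h1 hv TV (lt_of_le_of_ne le_sup_left fun e => k (e ▸ cT)) yT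
    rw [e, c.cardV] at T4
    omega
  refine ⟨card, VD, yD, comm, fun a ha => ctr _ (mul_mem ha ha) fun b hb => ?_, ctr, cy⟩
  have k := comm a ha b hb
  have e : a * a * b * (a * a)⁻¹ * b⁻¹ = a * (a * b * a⁻¹ * b⁻¹) * a⁻¹ * (a * b * a⁻¹ * b⁻¹) := by
    group
  rw [← (zp_comm k (Dv ha)).eq, mul_inv_cancel_right, zp_sq v2 k, mul_inv_eq_one,
    mul_inv_eq_iff_eq_mul] at e
  exact e

theorem Es.es2 {D : Subgroup G} (e : Es V D v y) (hv : orderOf v = 2) (hvD : v ∈ D) :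
    Spor.ES2 D v := by
  have v2 : v * v = 1 := by rw [← pow_two, ← hv, pow_orderOf_eq_one]
  have v1 : v ≠ 1 := fun k => by simp [k] at hv
  have cm : ∀ a ∈ D, ∀ b ∈ D, a * b = b * a ∨ a * b = v * (b * a) := fun a ha b hb =>
    ((Spor.mem_zpowers_iff_of_sq v2).1 (e.comm a ha b hb)).imp
      (fun k => by rw [show a * b = a * b * a⁻¹ * b⁻¹ * (b * a) by group, k, one_mul])
      (fun k => by rw [show a * b = a * b * a⁻¹ * b⁻¹ * (b * a) by group, k])
  refine ⟨hvD, v1, v2, fun q hq => (cm v hvD q hq).elim id fun k => ?_, cm,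
    fun a ha k => (Spor.mem_zpowers_iff_of_sq v2).1 (e.ctr a ha k), ?_⟩
  · exact absurd (by simpa using k.symm) v1
  · by_contra! k
    have := card_le_of_le (show D ≤ zpowers v from fun a ha => e.ctr a ha (k a ha))
    rw [e.card, Nat.card_zpowers, hv] at this
    omega

theorem sympl_top {T : Type*} [Group T] [Finite T] {u : T} (h : Spor.ES2 ⊤ u) :
    IsOfSymplecticType T := by
  classical
  have c : ∀ {x y : T}, ¬ Commute x y → x * y = u * (y * x) :=
    (h.comm _ trivial _ trivial).resolve_left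
  have zc : ∀ x, Commute u x := fun x => h.z_comm x trivial
  refine ⟨h.isPGroup.of_equiv topEquiv, fun A hA hc => ?_⟩
  have cm : ∀ x ∈ A, ∀ y ∈ A, Commute x y := fun x hx y hy =>
    congrArg Subtype.val (hc.is_comm.comm ⟨x, hx⟩ ⟨y, hy⟩)
  have inv : ∀ x ∈ A, x * x = 1 → x = 1 ∨ x = u := fun x hx x2 => by
    by_contra! n
    have sq : ∀ y, ¬ Commute x y → x * y * (x * y) = u * (y * y) := fun y hy => by
      rw [mul_assoc, ← mul_assoc y, c fun e => hy e.symm, ← mul_assoc, ← mul_assoc, ← mul_assoc,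
        ← (zc x).eq, mul_assoc u, x2, mul_one, mul_assoc]
    have nc : ∀ y, ¬ Commute x y → ¬ Commute x (x * y) := fun y hy e =>
      hy (by simpa using (Commute.refl x).inv_right.mul_right e)
    obtain ⟨y, hy, y2⟩ : ∃ y, ¬ Commute x y ∧ y * y = 1 := by
      obtain ⟨y, -, hy⟩ := h.exists_not_comm trivial n.1 n.2
      exact (h.sq y trivial).elim (fun e => ⟨y, hy, e⟩) fun e =>
        ⟨_, nc y hy, by rw [sq y hy, e, h.z_sq]⟩
    have w2 := sq y hy
    rw [y2, mul_one] at w2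
    have xw := nc y hy
    have e : x * (x * y) = y := by rw [← mul_assoc, x2, one_mul]
    generalize x * y = w at w2 xw e
    let τ : T →* T := MonoidHom.mk' (fun t => if Commute t w then t else t * w) fun s t => by
      by_cases hs : Commute s w <;> by_cases ht : Commute t w
      · simp [hs, ht, hs.mul_left ht]
      · rw [if_neg fun e => ht (by simpa using hs.inv_left.mul_left e), if_pos hs, if_neg ht,
          mul_assoc]
      · rw [if_neg fun e => hs (by simpa using e.mul_left ht.inv_left), if_neg hs, if_pos ht,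
          mul_assoc, ht.eq, mul_assoc]
      · rw [if_pos (show Commute _ _ from h.aes.comm_mul_of_ne trivial trivial trivial hs ht),
          if_neg hs, if_neg ht, mul_assoc, ← mul_assoc w, c fun e => ht e.symm, mul_assoc,
          mul_assoc, w2, ← (zc t).eq, h.z_mul_z_mul]
    have hi : Function.Injective τ := (injective_iff_map_eq_one τ).2 fun t (ht : ite _ _ _ = _) => by
      split_ifs at ht with k
      exacts [ht, (k (eq_inv_of_mul_eq_one_left ht ▸ (Commute.refl w).inv_left)).elim]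
    refine hy (cm x hx y ?_)
    have : (if Commute x w then x else x * w) ∈ A :=
      (hA.fixed (MulEquiv.ofBijective τ (Finite.injective_iff_bijective.1 hi))).ge hx
    rwa [if_neg xw, e] at this
  obtain ⟨a, ha⟩ : ∃ a, A ≤ zpowers a := by
    by_cases k : ∀ a ∈ A, a * a = 1
    · exact ⟨u, fun a ha => (Spor.mem_zpowers_iff_of_sq h.z_sq).2 (inv a ha (k a ha))⟩
    push Not at k
    obtain ⟨a, ha, k⟩ := k
    replace k := (h.sq a trivial).resolve_left k
    have m : ∀ b ∈ A, b * b = 1 → b ∈ zpowers a := fun b hb e => by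
      rcases inv b hb e with rfl | rfl
      exacts [one_mem _, k ▸ mul_mem (mem_zpowers a) (mem_zpowers a)]
    refine ⟨a, fun b hb => (h.sq b trivial).elim (m b hb) fun e =>
      (mul_mem_cancel_left (mem_zpowers a)).1 (m _ (mul_mem ha hb) ?_)⟩
    rw [← sq, (cm a ha b hb).mul_pow, sq, sq, k, e, h.z_sq]
  exact isCyclic_of_le ha

theorem es2_pull {H : Type*} [Group H] {f : H →* G} (hf : Function.Injective f) {D : Subgroup G}
    {E : Subgroup H} (hE : E.map f = D) {u : H} (h : Spor.ES2 D (f u)) : Spor.ES2 E u := by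
  have m : ∀ a, a ∈ E ↔ f a ∈ D := fun a => hE ▸ (mem_map_iff_mem hf).symm
  refine ⟨(m u).2 h.z_mem, fun e => h.z_ne (by rw [e, map_one]), hf (by simpa using h.z_sq),
    fun q hq => hf (by simpa using h.z_comm _ ((m q).1 hq)), fun a ha b hb =>
      (h.comm _ ((m a).1 ha) _ ((m b).1 hb)).imp (fun k => hf (by simpa using k))
        fun k => hf (by simpa using k), fun a ha k => (h.center _ ((m a).1 ha) ?_).imp
          (fun k => hf (by simpa using k)) fun k => hf k, ?_⟩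
  · rw [← hE]
    rintro _ ⟨q, hq, rfl⟩
    simpa using congrArg f (k q hq)
  · obtain ⟨a, ha, b, hb, k⟩ := h.nonab
    rw [← hE] at ha hb
    obtain ⟨a, ha, rfl⟩ := ha
    obtain ⟨b, hb, rfl⟩ := hb
    exact ⟨a, ha, b, hb, fun e => k (by simpa using congrArg f e)⟩

theorem es2_sympl {D : Subgroup G} (h : Spor.ES2 D v) : IsOfSymplecticType D :=
  sympl_top (u := ⟨v, h.z_mem⟩) (es2_pull (subtype_injective D) (by
    rw [← MonoidHom.range_eq_map, range_subtype]) h)

theorem Es.extra {D : Subgroup G} (e : Es V D v y) (hv : orderOf v = 2) (hvD : v ∈ D) :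
    IsExtraspecial 2 D ∧ IsOfSymplecticType D :=
  ⟨(e.es2 hv hvD).isExtraspecial, es2_sympl (e.es2 hv hvD)⟩

theorem CB.fstar (h : Th G 7) (c : CB M V V x y) (h1 : v ≠ 1) (hv : V ⊓ Cn y = zpowers v)
    (hD : DD v ≤ M) : IsOfSymplecticType (generalizedFittingSubgroup (centralizer ({v} : Set G))) ∧
      IsExtraspecial 2 (generalizedFittingSubgroup (centralizer ({v} : Set G))) ∧
      Nat.card (generalizedFittingSubgroup (centralizer ({v} : Set G))) = 32 := by
  have hv' : v ∈ V ⊓ Cn y := hv ▸ mem_zpowers v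
  have vo := c.ord hv'.1 h1
  have e := c.es h h1 hv
  rw [inf_eq_left.2 hD] at e
  have k : (generalizedFittingSubgroup (Cn v)).map (Cn v).subtype = DD v := by
    rw [GT.isOfCharacteristicTwo_iff.1 (h.charC vo)]; rfl
  have e2 := es2_pull (u := ⟨v, mem_Cn.2 (Commute.refl v)⟩) (subtype_injective _) k
    (e.es2 vo (mem_DD vo))
  exact ⟨es2_sympl e2, e2.isExtraspecial, by
    rw [← e.card, ← k, card_map_of_injective (subtype_injective _)]⟩

end Cfsg.Agent.K3P
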