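import Mathlib
import Cfsg.Agent.K3P.B5a

/-! The case `Q = V`: the 2-core of the centraliser of `v` lies in `M`. -/

set_option autoImplicit false
set_option linter.unusedSectionVars false
open Cfsg Subgroup

namespace Cfsg.Agent.K3P

variable {G : Type*} [Group G] [Finite G] {M V : Subgroup G} {x y v : G}

theorem cs_norm {D T U : Subgroup G} {hT : D ≤ normalizer (T : Set G)} {g : G}
    (hD : g ∈ normalizer (D : Set G)) (hg : g ∈ normalizer (T : Set G))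
    (hU : g ∈ normalizer (U : Set G)) : g ∈ normalizer (cs D T hT U : Set G) :=
  GT.mem_normalizer_iff_of_finite.2 fun d hd => ⟨GT.conj_mem_of_mem_normalizer hD hd.1, fun u hu => by
    have := GT.conj_mem_of_mem_normalizer hg (hd.2 _ (GT.conj_mem_of_mem_normalizer' hU hu))
    rwa [show g * (g⁻¹ * u * g * d * (g⁻¹ * u * g)⁻¹ * d⁻¹) * g⁻¹ =
      u * (g * d * g⁻¹) * u⁻¹ * (g * d * g⁻¹)⁻¹ by group] at this⟩

theorem Es.count {D X : Subgroup G} (e : Es V D v y) (hv : orderOf v = 2) (hy : orderOf y = 3)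
    (h1 : zpowers v ≤ X) (h2 : X ≤ D) (h3 : y ∈ normalizer (X : Set G)) :
    Nat.card X = 2 ∨ Nat.card X = 8 ∨ Nat.card X = 32 := by
  have k := card_mod_cn Nat.prime_three hy h3
  rw [show X ⊓ Cn y = zpowers v from le_antisymm (e.cy ▸ inf_le_inf_right _ h2)
    (le_inf h1 (e.cy ▸ inf_le_right)), Nat.card_zpowers, hv] at k
  obtain ⟨i, hi, ei⟩ := card_dvd_pow (n := 5) h2 e.card
  rw [ei] at k ⊢
  interval_cases i <;> omega

/-- A `y`-invariant 2-group `U` in `C(v)` normalising `D`, in which only `D` normalises `V`. -/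
theorem Es.over {D U : Subgroup G} (e : Es V D v y) (hV : IsElementaryAbelian 2 V)
    (h8 : Nat.card V = 8) (hv : orderOf v = 2) (hvV : v ∈ V) (hy : orderOf y = 3)
    (hyV : y ∈ normalizer (V : Set G)) (hU : IsPGroup 2 U) (hDU : D < U) (hUv : U ≤ Cn v)
    (hUD : U ≤ normalizer (D : Set G)) (hyU : y ∈ normalizer (U : Set G))
    (hN : U ⊓ normalizer (V : Set G) ≤ D) :
    Nat.card U = 64 ∧ normalizer (U : Set G) ⊓ Cn v ≤ normalizer (D : Set G) := by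
  have v2 := el_sq hV hvV
  have z2 : Nat.card (zpowers v) = 2 := by rw [Nat.card_zpowers, hv]
  have zV : zpowers v ≤ V := zpowers_le.2 hvV
  have zD : zpowers v ≤ D := zV.trans e.VD
  have Dv : D ≤ Cn v := hDU.le.trans hUv
  have Uz : U ≤ normalizer (zpowers v : Set G) := hUv.trans (cn_le_norm v)
  have Dz := hDU.le.trans Uz
  have yv : y ∈ Cn v := mem_Cn.2 (mem_Cn.1 (e.cy.ge (mem_zpowers v)).2).symm
  have yz := cn_le_norm v yv
  have D2 : IsPGroup 2 D := IsPGroup.of_card (n := 5) e.card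
  have lt : ∀ {A B : Subgroup G}, Nat.card A < Nat.card B → A ≤ B → A < B := fun k l =>
    lt_of_le_of_ne l fun e => by rw [e] at k; omega
  have cnt := fun X => e.count (X := X) hv hy
  obtain ⟨C, hC⟩ : ∃ C, C = cs D _ Dz U := ⟨_, rfl⟩
  have mC : ∀ {d}, d ∈ C ↔ d ∈ D ∧ ∀ g ∈ U, g * d * g⁻¹ * d⁻¹ ∈ zpowers v := by
    intro d; rw [hC]; rfl
  have CD : C ≤ D := fun _ h => (mC.1 h).1
  have zC : zpowers v ≤ C := fun a ha => mC.2 ⟨zD ha, fun g hg => by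
    rw [← (zp_comm ha (hUv hg)).eq]; simp⟩
  have yC : y ∈ normalizer (C : Set G) := hC ▸ cs_norm e.yD yz hyU
  have UC : U ≤ normalizer (C : Set G) := fun u hu =>
    hC ▸ cs_norm (hUD hu) (Uz hu) (le_normalizer hu)
  have toD : ∀ u ∈ U, (∀ w ∈ V, u * w * u⁻¹ * w⁻¹ ∈ zpowers v) → u ∈ D := fun u hu k =>
    hN ⟨hu, GT.mem_normalizer_iff_of_finite.2 fun w hw => by
      simpa using mul_mem (zV (k w hw)) hw⟩
  have VC : ¬ V ≤ C := fun k => hDU.not_ge fun u hu => toD u hu fun w hw => (mC.1 (k hw)).2 u hu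
  have C8 : Nat.card C = 8 := by
    obtain ⟨w, hw, w1, k⟩ := exists_fix hU D2 (lt (by rw [z2, e.card]; omega) zD) hUD Uz Dz
    have l := GT.PG.card_lt_of_lt (lt_of_le_of_ne zC fun e => w1 (e ▸ mC.2 ⟨hw, k⟩))
    rcases cnt C zC CD yC with k | k | k
    · omega
    · exact k
    · exact absurd (e.VD.trans (GT.PG.eq_of_le_of_card_le CD (by rw [k, e.card])).ge) VC
  have VC2 : Nat.card (V ⊓ C : Subgroup G) = 2 := by
    have l := card_le_of_le (inf_le_left : V ⊓ C ≤ V)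
    rcases cnt (V ⊓ C) (le_inf zV zC) (inf_le_right.trans CD) (mem_norm_inf hyV yC) with k | k | k
    · exact k
    · exact absurd ((GT.PG.eq_of_le_of_card_le inf_le_left (by rw [k, h8])).ge.trans inf_le_right) VC
    · omega
  have sup : V ⊔ C = D := by
    have k := GT.PG.card_sup_mul_card_inf (e.VD.trans (hDU.le.trans UC))
    refine GT.PG.eq_of_le_of_card_le (sup_le e.VD CD) ?_
    rw [VC2, h8, C8] at k
    rw [e.card]; omega
  have ctr : ∀ a ∈ D, V ≤ Cn a → C ≤ Cn a → a ∈ zpowers v := fun a ha k1 k2 =>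
    e.ctr a ha fun b hb => mem_Cn.1 (sup_le k1 k2 (sup.ge hb))
  have phC : ∀ u ∈ U, ∀ d ∈ D, u * d * u⁻¹ * d⁻¹ ∈ C := by
    have DC := hDU.le.trans UC
    obtain ⟨w, hw, w1, k⟩ := exists_fix hU D2 (lt (by rw [C8, e.card]; omega) CD) hUD UC DC
    have l1 : C ≤ cs D C DC U := fun a ha => ⟨CD ha, fun g hg => zC ((mC.1 ha).2 g hg)⟩
    have l := GT.PG.card_lt_of_lt (lt_of_le_of_ne l1 fun e => w1 (e ▸ (⟨hw, k⟩ : w ∈ cs D C DC U)))
    have : cs D C DC U = D := GT.PG.eq_of_le_of_card_le cs_le (by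
      rcases cnt _ (zC.trans l1) cs_le (cs_norm e.yD yC hyU) with k | k | k <;> rw [e.card] <;> omega)
    exact fun u hu d hd => (this.ge hd).2 u hu
  have phZ : ∀ u ∈ U, ∀ d ∈ D, C ≤ Cn (u * d * u⁻¹ * d⁻¹) := fun u hu d hd a ha => by
    have ha' : d⁻¹ * a * d ∈ C := GT.conj_mem_of_mem_normalizer' (UC (hDU.le hd)) ha
    obtain ⟨b, hb⟩ : ∃ b, b = d⁻¹ * a * d := ⟨_, rfl⟩
    obtain rfl : a = d * b * d⁻¹ := by rw [hb]; group
    rw [← hb] at ha'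
    have k1 := zp_comm ((mC.1 ha').2 u⁻¹ (inv_mem hu)) (Dv hd)
    have k2 := zp_comm (e.comm d hd b (CD ha')) (hUv hu)
    have k3 := zp_comm (e.comm d hd b (CD ha')) (Dv (CD ha'))
    obtain ⟨f, hf⟩ : ∃ f, f = u⁻¹ * b * u⁻¹⁻¹ * b⁻¹ := ⟨_, rfl⟩
    obtain ⟨g, hg⟩ : ∃ g, g = d * b * d⁻¹ * b⁻¹ := ⟨_, rfl⟩
    have k4 := zp_comm (e.comm d hd b (CD ha')) (Dv (zD ((mC.1 ha').2 u⁻¹ (inv_mem hu))))
    rw [← hf] at k1 k4
    rw [← hg] at k2 k3 k4
    have e1 : u⁻¹ * b * u = f * b := by rw [hf]; group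
    have e2 : d * b * d⁻¹ = g * b := by rw [hg]; group
    refine mem_Cn.2 (mul_inv_eq_iff_eq_mul.1 ?_)
    calc u * d * u⁻¹ * d⁻¹ * (d * b * d⁻¹) * (u * d * u⁻¹ * d⁻¹)⁻¹
        = u * (d * (u⁻¹ * b * u) * d⁻¹) * u⁻¹ := by group
      _ = u * (f * (d * b * d⁻¹)) * u⁻¹ := by rw [e1, ← mul_assoc d, ← k1.eq]; group
      _ = g * (u * (f * b) * u⁻¹) := by
        rw [e2, ← mul_assoc f, ← k4.eq, mul_assoc g, ← mul_assoc u, ← k2.eq]; group
      _ = d * b * d⁻¹ := by rw [← e1, e2]; group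
  have ab : ∀ a ∈ C, ∀ b ∈ C, Commute a b := by
    have l1 : zpowers v ≤ C ⊓ centralizer (C : Set G) :=
      le_inf zC fun a ha b hb => (zp_comm ha (Dv (CD hb))).symm.eq
    have l := GT.PG.card_lt_of_lt (lt_of_le_of_ne l1 fun k => VC fun w hw =>
      mC.2 ⟨e.VD hw, fun u hu => k ▸ ⟨phC u hu w (e.VD hw), fun b hb =>
        (mem_Cn.1 (phZ u hu w (e.VD hw) hb)).symm.eq⟩⟩)
    have l2 := card_le_of_le (inf_le_left : C ⊓ centralizer (C : Set G) ≤ C)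
    have : C ⊓ centralizer (C : Set G) = C := GT.PG.eq_of_le_of_card_le inf_le_left (by
      rcases cnt _ l1 (inf_le_left.trans CD)
        (mem_norm_inf yC (GT.Tr.normalizer_le_normalizer_centralizer C yC)) with k | k | k <;> omega)
    exact fun a ha b hb => (this.ge hb).2 a ha
  have el : ∀ a ∈ C, a * a = 1 := fun a ha => by
    have y3 : y * y * y = 1 := by rw [← pow_three', ← hy, pow_orderOf_eq_one]
    have hb := GT.conj_mem_of_mem_normalizer yC ha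
    have hc := GT.conj_mem_of_mem_normalizer yC hb
    have s := e.sq a (CD ha)
    have sb : y * a * y⁻¹ * (y * a * y⁻¹) = a * a := by
      rw [show y * a * y⁻¹ * (y * a * y⁻¹) = y * (a * a) * y⁻¹ by group, ← (zp_comm s yv).eq]; group
    have sc : y * (y * a * y⁻¹) * y⁻¹ * (y * (y * a * y⁻¹) * y⁻¹) = a * a := by
      rw [show y * (y * a * y⁻¹) * y⁻¹ * (y * (y * a * y⁻¹) * y⁻¹) =
        y * (y * a * y⁻¹ * (y * a * y⁻¹)) * y⁻¹ by group, sb, ← (zp_comm s yv).eq]; group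
    have ya : y * (y * (y * a * y⁻¹) * y⁻¹) * y⁻¹ = a := by
      rw [show y * (y * (y * a * y⁻¹) * y⁻¹) * y⁻¹ = y * y * y * a * (y * y * y)⁻¹ by group, y3]
      simp
    obtain ⟨b, eb⟩ : ∃ b, y * a * y⁻¹ = b := ⟨_, rfl⟩
    rw [eb] at hb hc sb sc ya
    obtain ⟨c, ec⟩ : ∃ c, y * b * y⁻¹ = c := ⟨_, rfl⟩
    rw [ec] at hc sc ya
    have n : a * b * c ∈ zpowers v := e.cy ▸ ⟨CD (mul_mem (mul_mem ha hb) hc),
      mem_Cn.2 (mul_inv_eq_iff_eq_mul.1 (by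
        rw [show y * (a * b * c) * y⁻¹ = y * a * y⁻¹ * (y * b * y⁻¹) * (y * c * y⁻¹) by group,
          eb, ec, ya, ← (ab a ha _ (mul_mem hb hc)).eq, mul_assoc]))⟩
    have n2 := zp_sq v2 n
    rw [← pow_two, (ab _ (mul_mem ha hb) c hc).mul_pow, (ab a ha b hb).mul_pow, pow_two, pow_two,
      pow_two, sb, sc, zp_sq v2 s, one_mul] at n2
    exact n2
  have phw : ∀ u ∈ U, ∀ w ∈ V, w ∈ Cn (u * w * u⁻¹ * w⁻¹) := fun u hu w hw => by
    have k1 := inv_eq_of_mul_eq_one_right (el _ (phC u hu w (e.VD hw)))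
    have k2 := inv_eq_of_mul_eq_one_right (el_sq hV hw)
    refine mem_Cn.2 ?_
    show _ * _ = _ * _
    conv_rhs => rw [← k1]
    rw [show w * (u * w * u⁻¹ * w⁻¹)⁻¹ = w * w * (u * w⁻¹ * u⁻¹) by group, el_sq hV hw, k2]
    conv_lhs => rw [mul_assoc, el_sq hV hw]
    simp
  have K : ∀ u ∈ U, ∀ w ∈ V, w ∉ zpowers v → u * w * u⁻¹ * w⁻¹ ∈ zpowers v → u ∈ D := by
    intro u hu w hw w1 k
    refine toD u hu fun w2 hw2 => ?_
    have W4 : Nat.card (zpowers v ⊔ zpowers w : Subgroup G) = 4 := by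
      rw [GT.PG.card_sup_zpowers Nat.prime_two (Dz (e.VD hw)) w1
        (by rw [pow_two, el_sq hV hw]; exact one_mem _), z2]
    by_cases k2 : w2 ∈ zpowers v ⊔ zpowers w
    · exact ((sup_le (fun a ha => ⟨zD ha, fun g hg => hg ▸ (mC.1 (zC ha)).2 u hu⟩)
        (zpowers_le.2 ⟨e.VD hw, fun g hg => hg ▸ k⟩) : _ ≤ cs D _ Dz {u}) k2).2 u rfl
    have fC := phC u hu w2 (e.VD hw2)
    have c2 := mem_Cn.1 (phw u hu w2 hw2)
    have c3 := mem_Cn.1 (phw u hu _ (mul_mem hw hw2))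
    rw [show u * (w * w2) * u⁻¹ * (w * w2)⁻¹ = (u * w * u⁻¹ * w⁻¹) * (w * (u * w2 * u⁻¹ * w2⁻¹) * w⁻¹ *
      (u * w2 * u⁻¹ * w2⁻¹)⁻¹) * (u * w2 * u⁻¹ * w2⁻¹) by group] at c3
    have c4 := zp_comm (mul_mem k (e.comm w (e.VD hw) _ (CD fC))) (Dv (e.VD (mul_mem hw hw2)))
    obtain ⟨f, hf⟩ : ∃ f, u * w2 * u⁻¹ * w2⁻¹ = f := ⟨_, rfl⟩
    rw [hf] at fC c2 c3 c4 ⊢
    have c5 : Commute f w := by
      have c6 := c4.inv_left.mul_left c3
      rw [inv_mul_cancel_left] at c6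
      simpa using c6.mul_right c2.inv_right
    refine ctr f (CD fC) ?_ fun a ha => mem_Cn.2 (ab f fC a ha)
    have l := GT.PG.card_lt_of_lt (lt_of_le_of_ne (sup_le
      (le_inf zV fun a ha => mem_Cn.2 (ab f fC a (zC ha))) (zpowers_le.2 ⟨hw, mem_Cn.2 c5⟩))
      fun (e : _ = V ⊓ Cn f) => k2 (e ▸ ⟨hw2, mem_Cn.2 c2⟩))
    refine (GT.PG.eq_of_le_of_card_le inf_le_left ?_).ge.trans inf_le_right
    rcases card_of_le_eight (inf_le_left : V ⊓ Cn f ≤ V) h8 with k | k | k | k <;> omega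
  have U64 : Nat.card U = 64 := by
    obtain ⟨w, hw, w1⟩ := SetLike.exists_of_lt (lt (by rw [z2, h8]; omega) zV)
    obtain ⟨a, ha, a1⟩ := SetLike.exists_of_lt hDU
    have mA : ∀ u ∈ U, u * w * u⁻¹ * w⁻¹ ∈ C ⊓ Cn w := fun u hu =>
      ⟨phC u hu w (e.VD hw), mem_Cn.2 (mem_Cn.1 (phw u hu w hw)).symm⟩
    have zA : zpowers v ≤ C ⊓ Cn w :=
      le_inf zC fun b hb => mem_Cn.2 (zp_comm hb (Dv (e.VD hw))).symm
    have l1 := GT.PG.card_lt_of_lt (lt_of_le_of_ne zA fun k => a1 (K a ha w hw w1 (k ▸ mA a ha)))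
    have l2 := GT.PG.card_lt_of_lt (lt_of_le_of_ne (inf_le_left : C ⊓ Cn w ≤ C) fun k =>
      w1 (ctr w (e.VD hw) (fun b hb => mem_Cn.2 (el_comm hV hw hb)) (k.ge.trans inf_le_right)))
    have i2 : (zpowers v).relIndex (C ⊓ Cn w) = 2 := by
      have := GT.PG.relIndex_mul_card zA
      rw [z2] at this
      rcases card_of_le_eight (inf_le_left : C ⊓ Cn w ≤ C) C8 with k | k | k | k <;> omega
    have i3 : D.relIndex U = 2 := by
      refine index_eq_two_iff_exists_notMem_and.2 ⟨⟨a, ha⟩, a1, fun b => ?_⟩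
      by_cases b1 : (b : G) ∈ D
      · exact Or.inr b1
      refine Or.inl (K _ (mul_mem b.2 ha) w hw w1 ?_)
      have m : (a * w * a⁻¹ * w⁻¹) * (b * w * (b : G)⁻¹ * w⁻¹) ∈ zpowers v :=
        (mul_mem_iff_of_index_two (a := ⟨_, mA a ha⟩) (b := ⟨_, mA b b.2⟩) i2).2
          (iff_of_false (fun k => a1 (K a ha w hw w1 k)) fun k => b1 (K b b.2 w hw w1 k))
      have := mul_mem ((mC.1 (mA a ha).1).2 b b.2) m
      rwa [show b * (a * w * a⁻¹ * w⁻¹) * (b : G)⁻¹ * (a * w * a⁻¹ * w⁻¹)⁻¹ *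
        ((a * w * a⁻¹ * w⁻¹) * (b * w * (b : G)⁻¹ * w⁻¹)) = b * a * w * (b * a)⁻¹ * w⁻¹ by group] at this
    rw [← GT.PG.relIndex_mul_card hDU.le, i3, e.card]
  refine ⟨U64, fun n hn => GT.mem_normalizer_of_map_conj_le fun u hu => ?_⟩
  have DU : D ^ᶜ n ≤ U := GT.map_conj_le_of_mem_normalizer hDU.le hn.1
  have VN : V ≤ normalizer ((D ^ᶜ n : Subgroup G) : Set G) := fun w hw =>
    GT.mem_normalizer_iff_of_finite.2 fun d hd => GT.mem_map_conj.2 (by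
      have := GT.conj_mem_of_mem_normalizer
        (hUD (GT.conj_mem_of_mem_normalizer' hn.1 (hDU.le (e.VD hw)))) (GT.mem_map_conj.1 hd)
      rwa [show n⁻¹ * w * n * (n⁻¹ * d * n) * (n⁻¹ * w * n)⁻¹ = n⁻¹ * (w * d * w⁻¹) * n by group]
        at this)
  have k := GT.PG.card_sup_mul_card_inf VN
  have k2 := card_le_of_le (sup_le (e.VD.trans hDU.le) DU)
  rw [GT.card_map_conj, h8, e.card] at k
  rw [U64] at k2
  obtain ⟨w, hw, w1⟩ : ∃ w ∈ V ⊓ D ^ᶜ n, w ∉ zpowers v := by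
    by_contra! k3
    have := card_le_of_le (show V ⊓ D ^ᶜ n ≤ zpowers v from k3)
    rw [z2] at this
    nlinarith
  refine K u (DU hu) w hw.1 w1 ?_
  have := GT.conj_mem_of_mem_normalizer (cn_le_norm v hn.2)
    (e.comm _ (GT.mem_map_conj.1 hu) _ (GT.mem_map_conj.1 hw.2))
  rwa [show n * (n⁻¹ * u * n * (n⁻¹ * w * n) * (n⁻¹ * u * n)⁻¹ * (n⁻¹ * w * n)⁻¹) * n⁻¹ =
    u * w * u⁻¹ * w⁻¹ by group] at this

theorem CB.DD_le (h : Th G 7) (c : CB M V V x y) (h1 : v ≠ 1) (hv : V ⊓ Cn y = zpowers v) :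
    DD v ≤ M := by
  have : Fact (Nat.Prime 2) := ⟨Nat.prime_two⟩
  by_contra k
  have hv' : v ∈ V ⊓ Cn y := hv ▸ mem_zpowers v
  have vo := c.ord hv'.1 h1
  have yv : y ∈ Cn v := mem_Cn.2 (mem_Cn.1 hv'.2).symm
  have e := c.es h h1 hv
  have l : DD v ⊓ M < DD v := lt_of_le_of_ne inf_le_left fun e => k (inf_eq_left.1 e)
  obtain ⟨U64, hN⟩ := e.over c.el c.cardV vo hv'.1 c.yo (c.nV ▸ c.yM) ((two_DD v).to_inf_left)
    (GT.Tr.lt_inf_normalizer (two_DD v) l) (inf_le_left.trans (K3P.DD_le v)) inf_le_right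
    (mem_norm_inf (nDD v yv) (le_normalizer e.yD))
    (c.nV ▸ inf_le_inf_right _ inf_le_left)
  have D64 : Nat.card (DD v) = 64 := by
    rw [← U64]
    by_contra k2
    have := GT.Tr.lt_inf_normalizer (two_DD v) (lt_of_le_of_ne
      (inf_le_left : DD v ⊓ normalizer ((DD v ⊓ M : Subgroup G) : Set G) ≤ DD v)
      fun e => k2 (by rw [e]))
    exact this.not_ge fun g hg => ⟨hg.1, hN ⟨hg.2, K3P.DD_le v hg.1⟩⟩
  obtain ⟨X, hX, X64⟩ := c.exists_X h h1 hv'.1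
  have XN := (hX.trans inf_le_right).trans (nDD v)
  have k1 := GT.PG.card_sup_mul_card_inf XN
  have k2 : Nat.card (X ⊓ DD v : Subgroup G) ≤ 32 := e.card ▸
    card_le_of_le (le_inf inf_le_right (inf_le_left.trans (hX.trans inf_le_left)))
  obtain ⟨S, hS⟩ := ((IsPGroup.of_card (n := 6) X64).to_sup_of_normal_right' (two_DD v)
    XN).exists_le_sylow
  have k3 := card_le_of_le hS
  rw [X64, D64] at k1
  have DS : DD v ⊓ M ≤ S := inf_le_left.trans (le_sup_right.trans hS)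
  obtain ⟨z, -, z1, hz⟩ := exists_fix S.isPGroup' S.isPGroup' (Z := ⊥)
    (bot_lt_iff_ne_bot.2 fun k => h1 (mem_bot.1 (k ▸ DS (e.VD hv'.1)))) le_normalizer
    le_normalizer_of_normal le_normalizer_of_normal
  have cz : ∀ d ∈ (S : Subgroup G), Commute z d := fun d hd => by
    have := mem_bot.1 (hz d hd)
    rw [mul_inv_eq_one, mul_inv_eq_iff_eq_mul] at this
    exact this.symm
  have zV : z ∈ V := c.cV ▸ fun w hw => (cz w (DS (e.VD hw))).symm.eq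
  obtain rfl : z = v := ((Spor.mem_zpowers_iff_of_sq (el_sq c.el hv'.1)).1
    (e.ctr z (e.VD zV) fun b hb => cz b (DS hb))).resolve_left fun k => z1 (mem_bot.2 k)
  have k4 := h.idx vo S.isPGroup' fun d hd => mem_Cn.2 (cz d hd)
  have k5 := card_le_of_le (inf_le_right : (S : Subgroup G) ⊓ DD z ≤ DD z)
  refine h.n128 le_rfl S (le_antisymm (by omega) (le_trans ?_ k3))
  nlinarith

end Cfsg.Agent.K3P
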